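import Groth.Agent.H6KO.Transitivity
import Groth.Agent.RegImmLib.RegStalk
import Groth.Agent.QuotRep.Frame
import Groth.Agent.AmpleFamGen.Affine
import Groth.Agent.S9371
import Groth.Agent.KRRReg.LamPull

/-!
# The conormal sheaf of a complete intersection of closed subschemes
-/

set_option autoImplicit false
set_option linter.style.haveILetI false
set_option backward.isDefEq.respectTransparency false
set_option backward.isDefEq.respectTransparency.types false
set_option maxHeartbeats 1000000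

universe u

open CategoryTheory CategoryTheory.Limits AlgebraicGeometry TopologicalSpace Opposite

noncomputable section

namespace Groth.Agent.H6KO

open Groth.Agent Groth.Agent.Synt29 OmegaStalk ConormalStalk ConormalBC

theorem isFinLocFreeOfRank_sigma {X : Scheme.{u}} {r : ℕ} (N : Fin r → X.Modules) (d : Fin r → ℕ)
    (h : ∀ l, FlatMod.IsFinLocFreeOfRank (d l) (N l)) : FlatMod.IsFinLocFreeOfRank (∑ l, d l) (∐ N) := by
  intro x
  choose U hx e using fun l => h l x
  let V : X.Opens := ⟨⋂ l, (U l : Set X), isOpen_iInter_of_finite fun l => (U l).2⟩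
  have hle : ∀ l, V ≤ U l := fun l => Set.iInter_subset (fun l => (U l : Set X)) l
  let R := Scheme.Modules.restrictFunctor V.ι
  haveI : PreservesColimitsOfShape (Discrete (Fin r)) R :=
    (Scheme.Modules.restrictAdjunction V.ι).leftAdjoint_preservesColimits.preservesColimitsOfShape
  let O := fun _ : (Σ l, Fin (d l)) => Coh.structureModule (V : Scheme.{u})
  let O' := fun _ : Fin (∑ l, d l) => Coh.structureModule (V : Scheme.{u})
  exact ⟨V, Set.mem_iInter.2 hx, ⟨PreservesCoproduct.iso R N ≪≫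
    Sigma.mapIso (fun l => KFlatLib.restrictFreeIso (hle l) (e l).some) ≪≫
    sigmaSigmaIso (fun l => Fin (d l)) (fun _ _ => Coh.structureModule (V : Scheme.{u})) ≪≫
    Sigma.whiskerEquiv (f := O) (g := O') finSigmaFinEquiv fun _ => Iso.refl _⟩⟩

theorem nonempty_conormal_inter_iso {X Y : Scheme.{u}} {r : ℕ} (Xs : Fin r → Scheme.{u}) (j : ∀ l, Xs l ⟶ X)
    [∀ l, IsClosedImmersion (j l)] (d : Fin r → ℕ)
    (hj : ∀ l, RegImm.IsRegularImmersionOfCodim RegImm.Kind.koszul (d l) (j l))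
    (i : Y ⟶ X) [IsClosedImmersion i] (hY : ∀ U : X.affineOpens, i.ker.ideal U = ⨆ l, (j l).ker.ideal U)
    (g : ∀ l, Y ⟶ Xs l) (hg : ∀ l, g l ≫ j l = i)
    (hi : RegImm.IsRegularImmersionOfCodim RegImm.Kind.koszul (∑ l, d l) i) :
    Nonempty (Omega.conormal i ≅ ∐ fun l => (Scheme.Modules.pullback (g l)).obj (Omega.conormal (j l))) := by
  choose ψ hψ _ using fun l => S9371.result i (j l) (𝟙 X) (g l) (by rw [hg l, Category.comp_id])
  let c : (∐ fun l => (Scheme.Modules.pullback (g l)).obj (Omega.conormal (j l))) ⟶ Omega.conormal i := Sigma.desc ψ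
  haveI : Epi c := by
    rw [epi_iff_stalk]
    intro x z
    let P := (KFlatLib.stalkPullbackIso i x).app (I i)
    obtain ⟨U, hU, hxU, -⟩ := exists_isAffineOpen_mem_and_subset (U := ⊤) (x := i x) trivial
    suffices ∀ a ∈ RingHom.ker (i.stalkMap x).hom,
        ∃ n, Rep i (i x) n a ∧ ∃ v, P.hom ((DerSch.stalkFunctor Y x).map c v) = unit1 i x n by
      obtain ⟨p, hp⟩ := unit1_surjective i x (P.hom z)
      obtain ⟨a, ha⟩ := rep_exists i (i x) p
      obtain ⟨n, hn, v, hv⟩ := this a (RingHom.mem_ker.2 (rep_mem i ha))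
      rw [rep_inj i hn ha, hp] at hv
      exact ⟨v, (ConcreteCategory.bijective_of_isIso P.hom).1 hv⟩
    intro a ha
    rw [RegImmLib.ker_stalkMap_eq_map i hU x hxU, ← Scheme.Hom.ker_apply i ⟨U, hU⟩, hY ⟨U, hU⟩,
      show (⨆ l, (j l).ker.ideal ⟨U, hU⟩) = Ideal.span (⋃ l, ((j l).ker.ideal ⟨U, hU⟩ : Set Γ(X, U))) by
        simp [Ideal.span_iUnion, Ideal.span_eq],
      Ideal.map_span] at ha
    induction ha using Submodule.span_induction with
    | mem a ha =>
      obtain ⟨s, hs, rfl⟩ := ha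
      obtain ⟨l, hs⟩ := Set.mem_iUnion.1 hs
      have hs' : (j l).app U s = 0 := by
        rw [Scheme.Hom.ker_apply (j l) ⟨U, hU⟩] at hs
        exact hs
      have hs'' : i.app U s = 0 := by
        refine (congr($(Scheme.Hom.congr_app (hg l).symm U) s)).trans ?_
        show Y.presheaf.map _ ((g l).app (j l ⁻¹ᵁ U) ((j l).app U s)) = 0
        rw [hs', map_zero, map_zero]
      obtain ⟨k, hk⟩ := OmegaUniv.exists_idealSect_of_app_eq_zero (j l) U s hs'
      obtain ⟨k', hk'⟩ := OmegaUniv.exists_idealSect_of_app_eq_zero i U s hs''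
      have hy : x ∈ g l ⁻¹ᵁ (j l ⁻¹ᵁ U) := by
        show (g l ≫ j l) x ∈ U
        rw [hg l]
        exact hxU
      refine ⟨gm (I i) hxU k', ⟨U, hxU, k', rfl, congrArg _ hk'⟩,
        (DerSch.stalkFunctor Y x).map (Sigma.ι (fun l => (Scheme.Modules.pullback (g l)).obj (Omega.conormal (j l))) l)
          (gm _ hy (OmegaSh.pullSect (g l) (Omega.conormal (j l)) (j l ⁻¹ᵁ U) (OmegaSh.conormalSect (j l) U k))), ?_⟩
      rw [← ModuleCat.comp_apply, ← Functor.map_comp, Sigma.ι_desc]
      have hle : g l ⁻¹ᵁ (j l ⁻¹ᵁ U) ≤ i ⁻¹ᵁ (𝟙 X ⁻¹ᵁ U) := (congrArg (fun t : Y ⟶ X => t ⁻¹ᵁ U) (hg l)).le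
      have h2 := congrArg (gm (Omega.conormal i) hy)
        ((hψ l).2 U k k' (by rw [hk]; exact hk') (g l ⁻¹ᵁ (j l ⁻¹ᵁ U)) le_rfl hle)
      erw [gm_res, gm_res] at h2
      refine (congrArg _ ((DerSch.stalkFunctor_map_germ x (ψ l) _ hy _).trans h2)).trans ?_
      exact stalkPullbackIso_gm i (I i) x hxU k'
    | zero => exact ⟨0, rep_zero i _, 0, (congrArg P.hom (map_zero _)).trans
        ((map_zero _).trans (map_zero _).symm)⟩
    | add b b' _ _ e e' =>
      obtain ⟨n, h, v, hv⟩ := e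
      obtain ⟨n', h', v', hv'⟩ := e'
      exact ⟨n + n', rep_add i h h', v + v', (congrArg P.hom (map_add _ v v')).trans
        ((map_add _ _ _).trans ((congrArg₂ (· + ·) hv hv').trans (map_add _ n n').symm))⟩
    | smul b a _ e =>
      obtain ⟨n, h, v, hv⟩ := e
      refine ⟨b • n, rep_smul i h b, i.stalkMap x b • v, ?_⟩
      rw [map_smul]
      refine (map_smul _ _ _).trans ?_
      rw [hv, unit1_smul]
  haveI := QuotRep.isIso_of_epi_rank
    (isFinLocFreeOfRank_sigma _ d fun l => KRRReg.isFinLocFreeOfRank_pullback (g l) (isFinLocFreeOfRank_conormal (j l) (hj l)))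
    (isFinLocFreeOfRank_conormal i hi) c
  exact ⟨(asIso c).symm⟩

end Groth.Agent.H6KO
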