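import Groth.Prelude.Def_Omega3
import Groth.Prelude.Def_CohB1
import Groth.Agent.Synt29.OmegaMaps
import Mathlib.Algebra.Category.ModuleCat.Differentials.Presheaf

/-!
# A universal derivation exists for every morphism of schemes
-/

set_option autoImplicit false
set_option linter.style.haveILetI false
set_option backward.isDefEq.respectTransparency false
set_option backward.isDefEq.respectTransparency.types false
set_option maxHeartbeats 1000000

universe u

open CategoryTheory CategoryTheory.Limits AlgebraicGeometry TopologicalSpace Opposite

noncomputable section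

namespace Groth.Agent.H6KO

open Groth.Agent.Synt29

variable {X Y : Scheme.{u}} (f : X ⟶ Y)

/-- The functions generated by those coming from the base. -/
def baseRing (U : X.Opens) : Subring Γ(X, U) :=
  Subring.closure {s | ∃ (V : Y.Opens) (e : U ≤ f ⁻¹ᵁ V) (a : Γ(Y, V)), f.appLE V U e a = s}

theorem baseRing_res {U U' : X.Opens} (i : U' ≤ U) {s : Γ(X, U)} (hs : s ∈ baseRing f U) :
    X.presheaf.map (homOfLE i).op s ∈ baseRing f U' := by
  have : baseRing f U ≤ (baseRing f U').comap (X.presheaf.map (homOfLE i).op).hom := by
    refine Subring.closure_le.2 ?_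
    rintro _ ⟨V, e, a, rfl⟩
    refine Subring.subset_closure ⟨V, i.trans e, a, ?_⟩
    exact (congrArg (fun φ => φ.hom a) (f.appLE_map e (homOfLE i).op)).symm
  exact this hs

/-- The presheaf of these subrings. -/
def basePre : (X.Opens)ᵒᵖ ⥤ CommRingCat.{u} where
  obj U := CommRingCat.of (baseRing f U.unop)
  map {U U'} i := CommRingCat.ofHom (((X.presheaf.map i).hom.comp (baseRing f U.unop).subtype).codRestrict
    (baseRing f U'.unop) fun s => baseRing_res f i.unop.le s.2)
  map_id U := by
    refine CommRingCat.hom_ext (RingHom.ext fun s => Subtype.ext ?_)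
    exact congrArg (fun φ => φ.hom s.1) (X.presheaf.map_id U)
  map_comp {U V W} i j := by
    refine CommRingCat.hom_ext (RingHom.ext fun s => Subtype.ext ?_)
    exact congrArg (fun φ => φ.hom s.1) (X.presheaf.map_comp i j)

/-- Their inclusion. -/
def baseIncl : basePre f ⟶ X.presheaf where
  app U := CommRingCat.ofHom (baseRing f U.unop).subtype
  naturality _ _ _ := rfl

theorem exists_universal : ∃ (Ω : X.Modules) (d : OmegaSh.Der f Ω), OmegaSh.IsUniversal d := by
  let M := PresheafOfModules.DifferentialsConstruction.relativeDifferentials' (baseIncl f)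
  let d₀ := PresheafOfModules.DifferentialsConstruction.derivation' (baseIncl f)
  let adj := PresheafOfModules.sheafificationAdjunction.{u} (R := X.ringCatSheaf) (𝟙 X.ringCatSheaf.obj)
  let Ω : X.Modules := (CohB1.sheafifyMod X).obj M
  let η : M ⟶ Ω.val := adj.unit.app M
  let D : Ω.val.Derivation' (baseIncl f) := d₀.postcomp η
  let d : OmegaSh.Der f Ω :=
    { d := D.d
      d_mul := D.d_mul
      d_map := D.d_map
      d_app := fun {V} a => by
        refine D.d_app (X := (Opens.map f.base).op.obj V)
          (⟨f.c.app V a, Subring.subset_closure ⟨V.unop, le_rfl, a, ?_⟩⟩ : baseRing f (f ⁻¹ᵁ V.unop))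
        rw [Scheme.Hom.appLE_eq_app]; rfl }
  refine ⟨Ω, d, fun F E => ?_⟩
  let E' : F.val.Derivation' (baseIncl f) :=
    { d := E.d
      d_mul := E.d_mul
      d_map := E.d_map
      d_app := fun {U} a => by
        obtain ⟨s, hs⟩ := a
        show OmegaSh.Der.app E U.unop s = 0
        induction hs using Subring.closure_induction with
        | mem s hs =>
          obtain ⟨V, e, a, rfl⟩ := hs
          rw [Scheme.Hom.appLE, ConcreteCategory.comp_apply, OmegaStalk.app_res, OmegaStalk.app_base, map_zero]
        | zero => exact map_zero _
        | one => exact PresheafOfModules.Derivation.d_one E U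
        | add x y _ _ hx hy => rw [map_add, hx, hy, add_zero]
        | neg x _ hx => rw [map_neg, hx, neg_zero]
        | mul x y _ _ hx hy => rw [OmegaStalk.app_mul, hx, hy, smul_zero, smul_zero, add_zero] }
  let uv := PresheafOfModules.DifferentialsConstruction.isUniversal' (baseIncl f)
  refine ⟨(adj.homEquiv M F).symm (uv.desc E'), ?_, fun α hα => ?_⟩
  · have h : η ≫ ((adj.homEquiv M F).symm (uv.desc E')).val = uv.desc E' :=
      (adj.homEquiv M F).apply_symm_apply (uv.desc E')
    refine PresheafOfModules.Derivation.ext ?_
    funext U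
    ext s
    exact (congrArg (fun φ => φ.app U (d₀.d s)) h).trans
      (PresheafOfModules.Derivation.congr_d (uv.fac E') s)
  · refine (adj.homEquiv M F).injective (Eq.trans ?_ ((adj.homEquiv M F).apply_symm_apply _).symm)
    refine uv.postcomp_injective _ _ ?_
    refine PresheafOfModules.Derivation.ext ?_
    funext U
    ext s
    exact (PresheafOfModules.Derivation.congr_d hα s).trans
      (PresheafOfModules.Derivation.congr_d (uv.fac E') s).symm

end Groth.Agent.H6KO
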