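import Groth.Agent.H6KO.Transitivity
import Groth.Agent.H6KO.Exists
import Groth.Agent.CurveHurwitz.Seq
import Groth.Agent.KRRReg.KMaps
import Groth.Agent.KRRReg.PushOne
import Groth.Agent.ExtPowSh.Model
import Groth.Agent.GrpOmega.Section
import Groth.Agent.S5016
import Groth.Agent.S5015
import Groth.Agent.S5018
import Groth.Agent.S9370
import Groth.Agent.S9371
import Groth.Agent.S9372
import Groth.Agent.S9386
import Groth.Agent.S9711
import Groth.Agent.S8656

/-!
# The virtual cotangent class of a local complete intersection morphism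
-/

set_option autoImplicit false
set_option linter.style.haveILetI false
set_option backward.isDefEq.respectTransparency false
set_option backward.isDefEq.respectTransparency.types false
set_option maxHeartbeats 1000000

universe u

open CategoryTheory CategoryTheory.Limits AlgebraicGeometry TopologicalSpace Opposite

noncomputable section

namespace Groth.Agent.H6KO

open Groth.Agent

variable {X Y V W : Scheme.{u}}

theorem cl_add {S : ShortComplex X.Modules} (hS : S.ShortExact) (h₁ : FlatMod.IsFinLocFree S.X₁)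
    (h₂ : FlatMod.IsFinLocFree S.X₂) (h₃ : FlatMod.IsFinLocFree S.X₃) :
    KRR.cl X S.X₂ = KRR.cl X S.X₁ + KRR.cl X S.X₃ :=
  (KZ.clSub_ses (KRR.vbP X) hS h₁ h₂ h₃)

theorem flf_omega (f : X ⟶ Y) [Smooth f] {Ω : X.Modules} {d : OmegaSh.Der f Ω} (hd : OmegaSh.IsUniversal d) :
    FlatMod.IsFinLocFree Ω :=
  S5018.result f ((S1488.result f).1 inferInstance).2 Ω d hd

theorem flf_conormal (f : X ⟶ Y) (hf : ∀ x, Synt.IsKoszulAt f x) (g : V ⟶ Y) [Smooth g] (i : X ⟶ V)
    [IsImmersion i] [QuasiCompact i] (h : i ≫ g = f) :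
    RegImm.IsRegularImmersion RegImm.Kind.h1 i ∧ FlatMod.IsFinLocFree (Omega.conormal i) := by
  have hk := S8656.result f hf g i h
  have h1 : RegImm.IsRegularImmersion RegImm.Kind.h1 i := ⟨hk.1, fun z => by
    obtain ⟨U, hzU, hci, rs, hrs, hker⟩ := hk.2 z
    exact ⟨U, hzU, hci, rs, KRegLib.h1_of_koszul rs hrs, hker⟩⟩
  exact ⟨h1, isFinLocFree_conormal i h1⟩

/-- The sequence of differentials of a composite with a smooth first map, pulled back. -/
theorem exists_omega_seq (p : W ⟶ V) [Smooth p] (g : V ⟶ Y) (h : W ⟶ Y) (hw : p ≫ g = h)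
    (ΩV : V.Modules) (dV : OmegaSh.Der g ΩV) (hV : OmegaSh.IsUniversal dV)
    (ΩW : W.Modules) (dW : OmegaSh.Der h ΩW) (hW : OmegaSh.IsUniversal dW)
    (Ωp : W.Modules) (dp : OmegaSh.Der p Ωp) (hp : OmegaSh.IsUniversal dp) :
    ∃ (c : (Scheme.Modules.pullback p).obj ΩV ⟶ ΩW) (π : ΩW ⟶ Ωp) (w : c ≫ π = 0),
      (ShortComplex.mk c π w).ShortExact := by
  subst hw
  obtain ⟨c, hc, -⟩ := S9370.result g (p ≫ g) p (𝟙 Y) (Category.comp_id _) ΩV dV hV ΩW dW hW
  obtain ⟨π, w, he, hex, -⟩ := CurveHurwitz.exists_sequence' p g ΩV dV hV ΩW dW hW Ωp dp hp c hc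
  haveI : Mono (ShortComplex.mk c π w).f :=
    S5016.result g (p ≫ g) p rfl ((S1488.result p).1 inferInstance).2 ΩV dV hV ΩW dW hW c hc
  haveI : Epi (ShortComplex.mk c π w).g := he
  exact ⟨c, π, w, { exact := hex }⟩

theorem cl_omega_seq (p : W ⟶ V) [Smooth p] (g : V ⟶ Y) [Smooth g] (h : W ⟶ Y) (hw : p ≫ g = h)
    (k : X ⟶ W) (i : X ⟶ V) (hki : k ≫ p = i)
    (ΩV : V.Modules) (dV : OmegaSh.Der g ΩV) (hV : OmegaSh.IsUniversal dV)
    (ΩW : W.Modules) (dW : OmegaSh.Der h ΩW) (hW : OmegaSh.IsUniversal dW)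
    (Ωp : W.Modules) (dp : OmegaSh.Der p Ωp) (hp : OmegaSh.IsUniversal dp) :
    KRR.cl X ((Scheme.Modules.pullback k).obj ΩW) =
      KRR.cl X ((Scheme.Modules.pullback i).obj ΩV) + KRR.cl X ((Scheme.Modules.pullback k).obj Ωp) := by
  obtain ⟨c, π, w, hS⟩ := exists_omega_seq p g h hw ΩV dV hV ΩW dW hW Ωp dp hp
  subst hw
  have h₁ := flf_omega g hV
  have h₂ := flf_omega (p ≫ g) hW
  have h₃ := flf_omega p hp
  have h := cl_add (KRRReg.shortExact_pullback_vb k hS h₃)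
    (KFlatLib.isFinLocFree_pullback k (KFlatLib.isFinLocFree_pullback p h₁))
    (KFlatLib.isFinLocFree_pullback k h₂) (KFlatLib.isFinLocFree_pullback k h₃)
  refine h.trans ?_
  congr 1
  exact KRRReg.cl_iso ((Scheme.Modules.pullbackComp k p).app ΩV ≪≫ (Scheme.Modules.pullbackCongr hki).app ΩV)
    (KFlatLib.isFinLocFree_pullback k (KFlatLib.isFinLocFree_pullback p h₁))

theorem cl_conormal_seq (p : W ⟶ V) [Smooth p] (k : X ⟶ W) (i : X ⟶ V) [IsImmersion k] [IsImmersion i]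
    [QuasiCompact k] [QuasiCompact i] (hki : k ≫ p = i)
    (Ωp : W.Modules) (dp : OmegaSh.Der p Ωp) (hp : OmegaSh.IsUniversal dp)
    (hi : FlatMod.IsFinLocFree (Omega.conormal i)) (hk : FlatMod.IsFinLocFree (Omega.conormal k)) :
    KRR.cl X (Omega.conormal k) =
      KRR.cl X (Omega.conormal i) + KRR.cl X ((Scheme.Modules.pullback k).obj Ωp) := by
  obtain ⟨ψ, hψ, -⟩ := S9371.result k i p (𝟙 X) (by rw [Category.id_comp, hki])
  obtain ⟨φ, hφ⟩ := GrpOmega.exists_conormalDiff p k Ωp dp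
  obtain ⟨w, hS⟩ := S9711.result p k i hki Ωp dp hp ψ hψ φ hφ
  have h₀ := KFlatLib.isFinLocFree_pullback (𝟙 X) hi
  refine (cl_add hS h₀ hk (KFlatLib.isFinLocFree_pullback k (flf_omega p hp))).trans ?_
  congr 1
  exact KRRReg.cl_iso ((Scheme.Modules.pullbackId X).app _) h₀

/-- The class is unchanged along a smooth map of embeddings. -/
theorem cl_step (f : X ⟶ Y) (hf : ∀ x, Synt.IsKoszulAt f x) (p : W ⟶ V) [Smooth p] (g : V ⟶ Y) [Smooth g]
    (h : W ⟶ Y) [Smooth h] (hw : p ≫ g = h) (k : X ⟶ W) (i : X ⟶ V) [IsImmersion k] [IsImmersion i]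
    [QuasiCompact k] [QuasiCompact i] (hki : k ≫ p = i) (hi : i ≫ g = f)
    (ΩV : V.Modules) (dV : OmegaSh.Der g ΩV) (hV : OmegaSh.IsUniversal dV)
    (ΩW : W.Modules) (dW : OmegaSh.Der h ΩW) (hW : OmegaSh.IsUniversal dW) :
    KRR.cl X ((Scheme.Modules.pullback k).obj ΩW) - KRR.cl X (Omega.conormal k) =
      KRR.cl X ((Scheme.Modules.pullback i).obj ΩV) - KRR.cl X (Omega.conormal i) := by
  obtain ⟨Ωp, dp, hp⟩ := exists_universal p
  rw [cl_omega_seq p g h hw k i hki ΩV dV hV ΩW dW hW Ωp dp hp,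
    cl_conormal_seq p k i hki Ωp dp hp (flf_conormal f hf g i hi).2
      (flf_conormal f hf h k (by rw [← hw, reassoc_of% hki, hi])).2]
  abel

/-- The class does not depend on the factorisation. -/
theorem cl_indep {V' : Scheme.{u}} (f : X ⟶ Y) (hf : ∀ x : X, Synt.IsKoszulAt f x)
    (g : V ⟶ Y) [Smooth g] (i : X ⟶ V) [IsClosedImmersion i] (hi : i ≫ g = f)
    (g' : V' ⟶ Y) [Smooth g'] (i' : X ⟶ V') [IsClosedImmersion i'] (hi' : i' ≫ g' = f)
    (Ω : V.Modules) (d : OmegaSh.Der g Ω) (hd : OmegaSh.IsUniversal d)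
    (Ω' : V'.Modules) (d' : OmegaSh.Der g' Ω') (hd' : OmegaSh.IsUniversal d') :
    KRR.cl X ((Scheme.Modules.pullback i).obj Ω) - KRR.cl X (Omega.conormal i) =
      KRR.cl X ((Scheme.Modules.pullback i').obj Ω') - KRR.cl X (Omega.conormal i') := by
  let k₀ : X ⟶ pullback g g' := pullback.lift i i' (hi.trans hi'.symm)
  haveI : IsImmersion (k₀ ≫ pullback.fst g g') := by rw [pullback.lift_fst]; infer_instance
  haveI : IsImmersion k₀ := IsImmersion.of_comp k₀ (pullback.fst g g')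
  let p := k₀.coborderRange.ι ≫ pullback.fst g g'
  let q := k₀.coborderRange.ι ≫ pullback.snd g g'
  have hp : k₀.liftCoborder ≫ p = i := by
    rw [Scheme.Hom.liftCoborder_ι_assoc]
    exact pullback.lift_fst _ _ _
  have hq : k₀.liftCoborder ≫ q = i' := by
    rw [Scheme.Hom.liftCoborder_ι_assoc]
    exact pullback.lift_snd _ _ _
  obtain ⟨ΩW, dW, hW⟩ := exists_universal (p ≫ g)
  exact (cl_step f hf p g (p ≫ g) rfl k₀.liftCoborder i hp hi Ω d hd ΩW dW hW).symm.trans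
    (cl_step f hf q g' (p ≫ g) (by simp [p, q, pullback.condition]) k₀.liftCoborder i' hq hi' Ω' d' hd' ΩW dW hW)

section Rank

open ExtPowSh

/-- The rank at a point as a function on classes. -/
theorem rk_eq_of_cl {A B : X.Modules} (hA : FlatMod.IsFinLocFree A) (hB : FlatMod.IsFinLocFree B)
    {A' B' : X.Modules} (hA' : FlatMod.IsFinLocFree A') (hB' : FlatMod.IsFinLocFree B')
    (h : KRR.cl X A - KRR.cl X B = KRR.cl X A' - KRR.cl X B') (x : X) :
    (rk A x : ℤ) - rk B x = (rk A' x : ℤ) - rk B' x := by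
  obtain ⟨r, hr⟩ := exists_rankHom x
  simpa [hr A hA, hr B hB, hr A' hA', hr B' hB'] using congrArg r h

theorem rk_iso {A B : X.Modules} (e : A ≅ B) (x : X) : rk A x = rk B x :=
  ((DerSch.stalkFunctor X x).mapIso e).toLinearEquiv.finrank_eq

theorem rk_isZero {A : X.Modules} (hA : IsZero A) (x : X) : rk A x = 0 := by
  haveI : Subsingleton ((DerSch.stalkFunctor X x).obj A) :=
    ModuleCat.subsingleton_of_isZero ((DerSch.stalkFunctor X x).map_isZero hA)
  exact Module.finrank_zero_of_subsingleton (R := X.presheaf.stalk x) (M := (DerSch.stalkFunctor X x).obj A)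

theorem rk_pullback (h : W ⟶ X) {M : X.Modules} (hM : FlatMod.IsFinLocFree M) (w : W) :
    rk ((Scheme.Modules.pullback h).obj M) w = rk M (h w) := by
  haveI : Module.Free (X.presheaf.stalk (h w)) ((DerSch.stalkFunctor X (h w)).obj M) :=
    QCoh.free_stalk_of_isFinLocFree hM (h w)
  letI := (h.stalkMap w).hom.toAlgebra
  refine (((KFlatLib.stalkPullbackIso h w).app M).toLinearEquiv.finrank_eq).trans ?_
  exact Module.finrank_baseChange

theorem rk_restrict {M : X.Modules} (hM : FlatMod.IsFinLocFree M) (U : X.Opens) {n : ℕ} {x : X} (hx : x ∈ U)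
    (h : FlatMod.IsFinLocFreeOfRank n ((Scheme.Modules.restrictFunctor U.ι).obj M)) : rk M x = n := by
  have := (rk_iso ((Scheme.Modules.restrictFunctorIsoPullback U.ι).app M) ⟨x, hx⟩).symm.trans (rk_eq h _)
  rwa [rk_pullback U.ι hM] at this

theorem rk_omega_comp (p : W ⟶ V) [Smooth p] (g : V ⟶ Y) [Smooth g] (h : W ⟶ Y) (hw : p ≫ g = h)
    {ΩV : V.Modules} {dV : OmegaSh.Der g ΩV} (hV : OmegaSh.IsUniversal dV)
    {ΩW : W.Modules} {dW : OmegaSh.Der h ΩW} (hW : OmegaSh.IsUniversal dW)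
    {Ωp : W.Modules} {dp : OmegaSh.Der p Ωp} (hp : OmegaSh.IsUniversal dp) (w : W) :
    rk ΩW w = rk ΩV (p w) + rk Ωp w := by
  obtain ⟨c, π, w', hS⟩ := exists_omega_seq p g h hw ΩV dV hV ΩW dW hW Ωp dp hp
  have h := rk_add hS (KFlatLib.isFinLocFree_pullback p (flf_omega g hV)) (flf_omega p hp) w
  rwa [rk_pullback p (flf_omega g hV)] at h

theorem isZero_omega_openImmersion (j : W ⟶ V) [IsOpenImmersion j] {Ωj : W.Modules} {dj : OmegaSh.Der j Ωj}
    (hj : OmegaSh.IsUniversal dj) : IsZero Ωj := by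
  obtain ⟨Ω, d, hd⟩ := exists_universal (𝟙 V)
  obtain ⟨Ω', d', hd'⟩ := exists_universal (j ≫ 𝟙 V)
  obtain ⟨c, hc, -⟩ := S9370.result (𝟙 V) (j ≫ 𝟙 V) j (𝟙 V) (Category.comp_id _) Ω d hd Ω' d' hd'
  obtain ⟨π, w, he, -, -⟩ := CurveHurwitz.exists_sequence' j (𝟙 V) Ω d hd Ω' d' hd' Ωj dj hj c hc
  haveI := he
  haveI : Epi c := (S5015.result (𝟙 V) (j ≫ 𝟙 V) j rfl Ω d hd Ω' d' hd' c hc).1 inferInstance
  exact IsZero.of_epi_eq_zero π ((cancel_epi c).1 (w.trans comp_zero.symm))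

theorem rk_omega_open (j : W ⟶ V) [IsOpenImmersion j] (g : V ⟶ Y) [Smooth g]
    {ΩV : V.Modules} {dV : OmegaSh.Der g ΩV} (hV : OmegaSh.IsUniversal dV)
    {ΩW : W.Modules} {dW : OmegaSh.Der (j ≫ g) ΩW} (hW : OmegaSh.IsUniversal dW) (w : W) :
    rk ΩW w = rk ΩV (j w) := by
  obtain ⟨Ωj, dj, hj⟩ := exists_universal j
  rw [rk_omega_comp j g _ rfl hV hW hj w, rk_isZero (isZero_omega_openImmersion j hj), add_zero]

theorem rk_omega_baseChange {X' Y' : Scheme.{u}} {f : X ⟶ Y} [Smooth f] {g : Y' ⟶ Y} {g' : X' ⟶ X} {f' : X' ⟶ Y'}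
    (hsq : IsPullback g' f' f g) {Ω : X.Modules} {d : OmegaSh.Der f Ω} (hd : OmegaSh.IsUniversal d)
    {Ω' : X'.Modules} {d' : OmegaSh.Der f' Ω'} (hd' : OmegaSh.IsUniversal d') (x : X') :
    rk Ω' x = rk Ω (g' x) := by
  obtain ⟨c, hc, -⟩ := S9370.result f f' g' g hsq.w.symm Ω d hd Ω' d' hd'
  haveI := S9386.result f g g' f' hsq Ω d hd Ω' d' hd' c hc
  rw [← rk_pullback g' (flf_omega f hd)]
  exact (rk_iso (asIso c) x).symm

/-- Virtual relative dimensions add up. -/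
theorem rk_comp {Z T U : Scheme.{u}} (f : X ⟶ Y) (g : Y ⟶ Z) (hf : ∀ x : X, Synt.IsKoszulAt f x)
    (hg : ∀ y : Y, Synt.IsKoszulAt g y) (hfg : ∀ x : X, Synt.IsKoszulAt (f ≫ g) x)
    (gf : V ⟶ Y) [Smooth gf] (jf : X ⟶ V) [IsClosedImmersion jf] (hjf : jf ≫ gf = f)
    (gg : U ⟶ Z) [Smooth gg] (jg : Y ⟶ U) [IsClosedImmersion jg] (hjg : jg ≫ gg = g)
    (gh : T ⟶ Z) [Smooth gh] (jh : X ⟶ T) [IsClosedImmersion jh] (hjh : jh ≫ gh = f ≫ g)
    (Ωf : V.Modules) (df : OmegaSh.Der gf Ωf) (hdf : OmegaSh.IsUniversal df)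
    (Ωg : U.Modules) (dg : OmegaSh.Der gg Ωg) (hdg : OmegaSh.IsUniversal dg)
    (Ωh : T.Modules) (dh : OmegaSh.Der gh Ωh) (hdh : OmegaSh.IsUniversal dh) (x : X) :
    (rk ((Scheme.Modules.pullback jh).obj Ωh) x : ℤ) - rk (Omega.conormal jh) x =
      ((rk ((Scheme.Modules.pullback jf).obj Ωf) x : ℤ) - rk (Omega.conormal jf) x) +
        ((rk ((Scheme.Modules.pullback jg).obj Ωg) (f x) : ℤ) - rk (Omega.conormal jg) (f x)) := by
  let k₀ : X ⟶ pullback gh gg := pullback.lift jh (f ≫ jg) (by rw [hjh, Category.assoc, hjg])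
  haveI : IsImmersion (k₀ ≫ pullback.fst gh gg) := by rw [pullback.lift_fst]; infer_instance
  haveI : IsImmersion k₀ := IsImmersion.of_comp k₀ (pullback.fst gh gg)
  let ι := k₀.coborderRange.ι
  let s := ι ≫ pullback.snd gh gg
  let a := ι ≫ pullback.fst gh gg
  let m := pullback.fst s jg
  let q := pullback.snd s jg
  let k : X ⟶ pullback s jg := pullback.lift k₀.liftCoborder f (by
    simp only [s, ι, Scheme.Hom.liftCoborder_ι_assoc]
    exact pullback.lift_snd _ _ _)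
  have hkq : k ≫ q = f := pullback.lift_snd _ _ _
  haveI : IsClosedImmersion (k ≫ m) := by rw [pullback.lift_fst]; infer_instance
  haveI : IsClosedImmersion k := IsClosedImmersion.of_comp k m
  have hkh : (k ≫ m) ≫ s ≫ gg = f ≫ g := by
    rw [Category.assoc, pullback.condition_assoc, reassoc_of% hkq, hjg]
  obtain ⟨Ω₂, d₂, hd₂⟩ := exists_universal (s ≫ gg)
  obtain ⟨Ω₁, d₁, hd₁⟩ := exists_universal q
  obtain ⟨Ωs, ds, hds⟩ := exists_universal s
  obtain ⟨Ωsnd, dsnd, hdsnd⟩ := exists_universal (pullback.snd gh gg)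
  -- the three factorisations
  have F := rk_eq_of_cl (KFlatLib.isFinLocFree_pullback jf (flf_omega gf hdf)) (flf_conormal f hf gf jf hjf).2
    (KFlatLib.isFinLocFree_pullback k (flf_omega q hd₁)) (flf_conormal f hf q k hkq).2
    (cl_indep f hf gf jf hjf q k hkq Ωf df hdf Ω₁ d₁ hd₁) x
  have H := rk_eq_of_cl (KFlatLib.isFinLocFree_pullback jh (flf_omega gh hdh)) (flf_conormal _ hfg gh jh hjh).2
    (KFlatLib.isFinLocFree_pullback (k ≫ m) (flf_omega _ hd₂)) (flf_conormal _ hfg (s ≫ gg) (k ≫ m) hkh).2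
    (cl_indep _ hfg gh jh hjh (s ≫ gg) (k ≫ m) hkh Ωh dh hdh Ω₂ d₂ hd₂) x
  -- the conormal sheaves
  have hh := flf_conormal g hg gg jg hjg
  obtain ⟨φ, hφ, -⟩ := S9371.result m jg s q (pullback.condition).symm
  haveI : IsIso φ := (S9372.result m jg s q (IsPullback.of_hasPullback s jg) φ hφ).2 inferInstance
  have hm : FlatMod.IsFinLocFree (Omega.conormal m) :=
    KRRReg.isFinLocFree_iso (asIso φ) (KFlatLib.isFinLocFree_pullback q hh.2)
  obtain ⟨a', ha', -⟩ := S9371.result (k ≫ m) m (𝟙 _) k (Category.comp_id _).symm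
  obtain ⟨b', hb', -⟩ := S9371.result k (k ≫ m) m (𝟙 X) (Category.id_comp _)
  obtain ⟨w, hS⟩ := conormal_transitivity k m a' ha' b' hb' (flf_conormal f hf q k hkq).1
  have C : rk (Omega.conormal (k ≫ m)) x = rk (Omega.conormal jg) (f x) + rk (Omega.conormal k) x := by
    refine (rk_add hS (KFlatLib.isFinLocFree_pullback k hm) (flf_conormal f hf q k hkq).2 x).trans ?_
    congr 1
    show rk ((Scheme.Modules.pullback k).obj (Omega.conormal m)) x = _
    rw [rk_pullback k hm, ← rk_iso (asIso φ), rk_pullback q hh.2, ← Scheme.Hom.comp_apply, hkq]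
  -- the differentials
  have P₂ : rk ((Scheme.Modules.pullback (k ≫ m)).obj Ω₂) x =
      rk ((Scheme.Modules.pullback jg).obj Ωg) (f x) + rk Ωs ((k ≫ m) x) := by
    rw [rk_pullback _ (flf_omega _ hd₂), rk_omega_comp s gg _ rfl hdg hd₂ hds, rk_pullback _ (flf_omega gg hdg)]
    congr 2
    rw [← Scheme.Hom.comp_apply, Category.assoc, pullback.condition, reassoc_of% hkq]
    rfl
  have P₁ : rk ((Scheme.Modules.pullback k).obj Ω₁) x = rk Ωs ((k ≫ m) x) := by
    rw [rk_pullback _ (flf_omega q hd₁), rk_omega_baseChange (IsPullback.of_hasPullback s jg) hds hd₁]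
    rfl
  omega

end Rank

end Groth.Agent.H6KO
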