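import Groth.Agent.H6KO.Cotangent
import Groth.Agent.PPSheaf.PullId
import Mathlib.Algebra.Homology.Double
import Mathlib.Algebra.Homology.HomologicalComplexAbelian
import Mathlib.Algebra.Homology.DerivedCategory.Basic

/-!
# The two-term cotangent complex does not depend on the factorisation
-/

set_option autoImplicit false
set_option linter.style.haveILetI false
set_option backward.isDefEq.respectTransparency false
set_option backward.isDefEq.respectTransparency.types false
set_option maxHeartbeats 1000000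

universe u v w

open CategoryTheory CategoryTheory.Limits AlgebraicGeometry TopologicalSpace Opposite

noncomputable section

namespace Groth.Agent.H6KO

section Abstract

variable {C : Type w} [Category.{v} C] [Abelian C]

theorem rel : (ComplexShape.up ℤ).Rel (-1 : ℤ) 0 := neg_add_cancel (1 : ℤ)

abbrev tw {A B : C} (φ : A ⟶ B) : CochainComplex C ℤ :=
  HomologicalComplex.double φ rel

def twMap {A B A' B' : C} (φ : A ⟶ B) (φ' : A' ⟶ B') (a : A ⟶ A') (b : B ⟶ B') (h : φ ≫ b = a ≫ φ') :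
    tw φ ⟶ tw φ' :=
  HomologicalComplex.mkHomFromDouble _ (by decide)
    (a ≫ (HomologicalComplex.doubleXIso₀ φ' rel).inv)
    (b ≫ (HomologicalComplex.doubleXIso₁ φ' rel (by decide)).inv)
    (by
      rw [HomologicalComplex.double_d φ' _ (by decide : (-1 : ℤ) ≠ 0)]
      simp [reassoc_of% h])
    (fun k hk => by
      rw [HomologicalComplex.double_d_eq_zero₀ _ _ _ _ (by decide), comp_zero])

theorem acyclic_tw (P : C) : (tw (𝟙 P)).Acyclic := by
  intro i
  have hd : IsIso ((tw (𝟙 P)).d (-1) 0) := by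
    rw [HomologicalComplex.double_d (𝟙 P) _ (by decide : (-1 : ℤ) ≠ 0)]
    infer_instance
  rw [HomologicalComplex.exactAt_iff' _ (i - 1) i (i + 1) (by simp) (by simp)]
  by_cases h1 : i = -1
  · subst h1
    refine (ShortComplex.exact_iff_mono _ ?_).2 ?_
    · exact HomologicalComplex.double_d_eq_zero₁ (𝟙 P) rel _ _ (by decide)
    · have : ∀ j : ℤ, j = 0 → Mono ((tw (𝟙 P)).d (-1) j) := by rintro _ rfl; infer_instance
      exact this _ (by norm_num)
  by_cases h2 : i = 0
  · subst h2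
    refine (ShortComplex.exact_iff_epi _ ?_).2 ?_
    · exact HomologicalComplex.double_d_eq_zero₀ (𝟙 P) rel _ _ (by decide)
    · have : ∀ j : ℤ, j = -1 → Epi ((tw (𝟙 P)).d j 0) := by rintro _ rfl; infer_instance
      exact this _ (by norm_num)
  exact ShortComplex.exact_of_isZero_X₂ _ (HomologicalComplex.isZero_double_X (𝟙 P) rel i h1 h2)

theorem quasiIso_of_acyclic_X₃ {S : ShortComplex (CochainComplex C ℤ)} (hS : S.ShortExact) (h₃ : S.X₃.Acyclic) :
    QuasiIso S.f := by
  rw [quasiIso_iff]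
  intro i
  rw [quasiIsoAt_iff_isIso_homologyMap]
  have z : ∀ j, IsZero (S.X₃.homology j) := fun j => (h₃ j).isZero_homology
  haveI : Mono (HomologicalComplex.homologyMap S.f i) :=
    (hS.homology_exact₁ (i - 1) i (by simp)).mono_g ((z _).eq_of_src _ _)
  haveI : Epi (HomologicalComplex.homologyMap S.f i) :=
    (hS.homology_exact₂ i).epi_f ((z _).eq_of_tgt _ _)
  exact isIso_of_mono_of_epi _

/-- A map of two-term complexes whose cokernel is `P ⟶ P` becomes invertible in the derived category. -/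
theorem isIso_Q_twMap [HasDerivedCategory C] {A B A' B' P : C} (φ : A ⟶ B) (φ' : A' ⟶ B') (a : A ⟶ A')
    (b : B ⟶ B') (h : φ ≫ b = a ≫ φ') (p : A' ⟶ P) (q : B' ⟶ P) (hpq : φ' ≫ q = p)
    (ha : a ≫ p = 0) (hb : b ≫ q = 0) (hA : (ShortComplex.mk a p ha).ShortExact)
    (hB : (ShortComplex.mk b q hb).ShortExact) :
    IsIso (DerivedCategory.Q.map (twMap φ φ' a b h)) := by
  let g := twMap φ' (𝟙 P) p q (by rw [hpq, Category.comp_id])
  have w : twMap φ φ' a b h ≫ g = 0 := by
    ext <;> simp [g, twMap, reassoc_of% ha, reassoc_of% hb]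
  let S := ShortComplex.mk _ _ w
  have hS : S.ShortExact := by
    refine HomologicalComplex.shortExact_of_degreewise_shortExact _ fun i => ?_
    by_cases h1 : i = -1
    · subst h1
      refine ShortComplex.shortExact_of_iso ?_ hA
      exact ShortComplex.isoMk (HomologicalComplex.doubleXIso₀ φ rel).symm (HomologicalComplex.doubleXIso₀ φ' rel).symm
        (HomologicalComplex.doubleXIso₀ (𝟙 P) rel).symm (by simp [S, twMap]) (by simp [S, g, twMap])
    by_cases h2 : i = 0
    · subst h2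
      refine ShortComplex.shortExact_of_iso ?_ hB
      exact ShortComplex.isoMk (HomologicalComplex.doubleXIso₁ φ rel (by decide)).symm
        (HomologicalComplex.doubleXIso₁ φ' rel (by decide)).symm
        (HomologicalComplex.doubleXIso₁ (𝟙 P) rel (by decide)).symm (by simp [S, twMap]) (by simp [S, g, twMap])
    have z : ∀ {U V : C} (f : U ⟶ V), IsZero ((tw f).X i) :=
      fun f => HomologicalComplex.isZero_double_X _ _ i h1 h2
    haveI : Mono (S.map (HomologicalComplex.eval C _ i)).f := ⟨fun {Z} _ _ _ => (z φ).eq_of_tgt _ _⟩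
    haveI : Epi (S.map (HomologicalComplex.eval C _ i)).g := ⟨fun {Z} _ _ _ => (z (𝟙 P)).eq_of_src _ _⟩
    exact { exact := ShortComplex.exact_of_isZero_X₂ _ (z φ') }
  rw [DerivedCategory.isIso_Q_map_iff_quasiIso]
  exact quasiIso_of_acyclic_X₃ hS (acyclic_tw P)

end Abstract

variable {X Y V W : Scheme.{u}}

open OmegaSh

/-- Sections of the pullback along a composite. -/
theorem pullbackComp_inv_pullSect (k : X ⟶ W) (p : W ⟶ V) (M : V.Modules) (U : V.Opens) (s : Γ(M, U)) :
    ((Scheme.Modules.pullbackComp k p).inv.app M).app (k ⁻¹ᵁ (p ⁻¹ᵁ U)) (pullSect (k ≫ p) M U s) =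
      pullSect k _ (p ⁻¹ᵁ U) (pullSect p M U s) := by
  have h := unit_conjugateEquiv ((Scheme.Modules.pullbackPushforwardAdjunction p).comp (Scheme.Modules.pullbackPushforwardAdjunction k))
    (Scheme.Modules.pullbackPushforwardAdjunction (k ≫ p)) (Scheme.Modules.pullbackComp k p).inv M
  rw [Scheme.Modules.conjugateEquiv_pullbackComp_inv] at h
  exact (congrArg (fun a => (Scheme.Modules.Hom.app a U) s) h).symm

theorem pullbackCongr_app {k k' : X ⟶ V} (e : k = k') (M : V.Modules) (U : V.Opens) (s : Γ(M, U)) :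
    ((Scheme.Modules.pullbackCongr e).inv.app M).app (k' ⁻¹ᵁ U) (pullSect k' M U s) =
      ((Scheme.Modules.pullback k).obj M).presheaf.map (eqToHom (show k' ⁻¹ᵁ U = k ⁻¹ᵁ U by rw [e])).op
        (pullSect k M U s) := by
  subst e
  simp [Scheme.Modules.pullbackCongr]

/-- Maps out of a pullback are equal if they agree on pulled-back sections. -/
theorem pullback_ext (i : X ⟶ V) {M : V.Modules} {N : X.Modules} {a b : (Scheme.Modules.pullback i).obj M ⟶ N}
    (h : ∀ (U : V.Opens) (s : Γ(M, U)), a.app (i ⁻¹ᵁ U) (pullSect i M U s) = b.app (i ⁻¹ᵁ U) (pullSect i M U s)) :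
    a = b := by
  refine ((Scheme.Modules.pullbackPushforwardAdjunction i).homEquiv M N).injective ?_
  refine Scheme.Modules.hom_ext _ _ fun U => ?_
  ext s
  exact (OmegaLib.pullSect_adjoint i M N a U s).symm.trans ((h U s).trans (OmegaLib.pullSect_adjoint i M N b U s))

theorem map_pullSect (k : X ⟶ W) {M N : W.Modules} (π : M ⟶ N) (U : W.Opens) (s : Γ(M, U)) :
    ((Scheme.Modules.pullback k).map π).app (k ⁻¹ᵁ U) (pullSect k M U s) = pullSect k N U (π.app U s) :=
  (congrArg (fun a => (Scheme.Modules.Hom.app a U) s)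
    ((Scheme.Modules.pullbackPushforwardAdjunction k).unit.naturality π)).symm

theorem exists_idealSect_app (p : W ⟶ V) (k : X ⟶ W) (i : X ⟶ V) (hki : k ≫ p = i) [QuasiCompact k] [QuasiCompact i]
    (U : V.Opens) (s : Γ(ClSub.idealMod i.ker, U)) :
    ∃ t : Γ(ClSub.idealMod k.ker, p ⁻¹ᵁ U), idealSect k.ker (p ⁻¹ᵁ U) t = p.app U (idealSect i.ker U s) := by
  subst hki
  refine OmegaUniv.exists_idealSect_of_app_eq_zero k (p ⁻¹ᵁ U) _ ?_
  exact (OmegaUniv.app_idealSect (k ≫ p) U s :)

/-- A smooth map of embeddings induces an isomorphism of the two-term complexes in the derived category. -/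
theorem complex_step [HasDerivedCategory.{w} X.Modules] (p : W ⟶ V) [Smooth p] (g : V ⟶ Y) (h : W ⟶ Y)
    (hw : p ≫ g = h) (k : X ⟶ W) (i : X ⟶ V) [IsImmersion k] [IsImmersion i]
    [QuasiCompact k] [QuasiCompact i] (hki : k ≫ p = i)
    (ΩV : V.Modules) (dV : Der g ΩV) (hV : IsUniversal dV)
    (ΩW : W.Modules) (dW : Der h ΩW) (hW : IsUniversal dW)
    (φi : Omega.conormal i ⟶ (Scheme.Modules.pullback i).obj ΩV) (hφi : IsConormalDiff i dV φi)
    (φk : Omega.conormal k ⟶ (Scheme.Modules.pullback k).obj ΩW) (hφk : IsConormalDiff k dW φk) :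
    Nonempty (DerivedCategory.Q.obj (tw φi) ≅ DerivedCategory.Q.obj (tw φk)) := by
  subst hw hki
  obtain ⟨Ωp, dp, hp⟩ := exists_universal p
  obtain ⟨c, hc, -⟩ := S9370.result g (p ≫ g) p (𝟙 Y) (Category.comp_id _) ΩV dV hV ΩW dW hW
  obtain ⟨π, w, he, hex, hπ⟩ := CurveHurwitz.exists_sequence' p g ΩV dV hV ΩW dW hW Ωp dp hp c hc
  haveI : Mono (ShortComplex.mk c π w).f :=
    S5016.result g (p ≫ g) p rfl ((S1488.result p).1 inferInstance).2 ΩV dV hV ΩW dW hW c hc
  haveI : Epi (ShortComplex.mk c π w).g := he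
  have hΩ := KRRReg.shortExact_pullback_vb k ({ exact := hex } : (ShortComplex.mk c π w).ShortExact) (flf_omega p hp)
  let φp := φk ≫ (Scheme.Modules.pullback k).map π
  have hφp : IsConormalDiff k dp φp := fun U s => by
    refine (congrArg (((Scheme.Modules.pullback k).map π).app (k ⁻¹ᵁ U)) (hφk U s)).trans ?_
    rw [map_pullSect, hπ]
  obtain ⟨ψ, hψ, -⟩ := S9371.result k (k ≫ p) p (𝟙 X) (Category.id_comp _)
  obtain ⟨w₁, hC⟩ := S9711.result p k (k ≫ p) rfl Ωp dp hp ψ hψ φp hφp
  let ψ' := (Scheme.Modules.pullbackId X).inv.app _ ≫ ψ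
  let β := (Scheme.Modules.pullbackComp k p).inv.app ΩV ≫ (Scheme.Modules.pullback k).map c
  have hψ' : ψ' ≫ φp = 0 := by simp [ψ', w₁]
  have hβ : β ≫ (Scheme.Modules.pullback k).map π = 0 := by
    simp [β, ← Functor.map_comp, w]
  have hsq : φi ≫ β = ψ' ≫ φk := by
    refine pullback_ext (k ≫ p) fun U s => ?_
    obtain ⟨t, ht⟩ := exists_idealSect_app p k (k ≫ p) rfl U s
    have h₁ := hψ.2 U s t ht ((k ≫ p) ⁻¹ᵁ U) le_rfl le_rfl
    have e : ψ'.app ((k ≫ p) ⁻¹ᵁ U) (conormalSect (k ≫ p) U s) = conormalSect k (p ⁻¹ᵁ U) t := by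
      refine (congrArg (ψ.app _) (PPSheaf.pullbackId_inv_app _ _ _)).trans ?_
      have hid : ∀ (O : X.Opens) (h : O ≤ O) (z : Γ(Omega.conormal k, O)),
          (Omega.conormal k).presheaf.map (homOfLE h).op z = z := fun O h z => by
        rw [show (homOfLE h).op = 𝟙 _ from rfl, CategoryTheory.Functor.map_id]
        rfl
      exact ((hid _ _ _).symm.trans h₁).trans (hid _ _ _)
    refine (congrArg (β.app _) (hφi U s)).trans ?_
    refine Eq.trans ?_ (congrArg (φk.app _) e).symm
    refine Eq.trans ?_ (hφk (p ⁻¹ᵁ U) t).symm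
    refine (congrArg (((Scheme.Modules.pullback k).map c).app _) (pullbackComp_inv_pullSect k p ΩV U _)).trans ?_
    rw [map_pullSect, hc U, ht]
  have hS₀ : (ShortComplex.mk ψ' φp hψ').ShortExact :=
    ShortComplex.shortExact_of_iso (S₁ := ShortComplex.mk ψ φp w₁)
      (ShortComplex.isoMk ((Scheme.Modules.pullbackId X).app _) (Iso.refl _) (Iso.refl _)
      (by simp [ψ']) (by simp)) hC
  have hS₁ : (ShortComplex.mk β ((Scheme.Modules.pullback k).map π) hβ).ShortExact :=
    ShortComplex.shortExact_of_iso (S₁ := (ShortComplex.mk c π w).map (Scheme.Modules.pullback k))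
      (ShortComplex.isoMk ((Scheme.Modules.pullbackComp k p).app _) (Iso.refl _) (Iso.refl _)
      (by simp [β]) (by simp)) hΩ
  haveI := isIso_Q_twMap φi φk ψ' β hsq φp _ rfl hψ' hβ hS₀ hS₁
  exact ⟨asIso (DerivedCategory.Q.map (twMap φi φk ψ' β hsq))⟩

/-- The complex does not depend on the factorisation. -/
theorem complex_indep [HasDerivedCategory.{w} X.Modules] {V' : Scheme.{u}} (f : X ⟶ Y)
    (g : V ⟶ Y) [Smooth g] (i : X ⟶ V) [IsClosedImmersion i] (hi : i ≫ g = f)
    (g' : V' ⟶ Y) [Smooth g'] (i' : X ⟶ V') [IsClosedImmersion i'] (hi' : i' ≫ g' = f)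
    (Ω : V.Modules) (d : Der g Ω) (hd : IsUniversal d)
    (Ω' : V'.Modules) (d' : Der g' Ω') (hd' : IsUniversal d')
    (φ : Omega.conormal i ⟶ (Scheme.Modules.pullback i).obj Ω) (hφ : IsConormalDiff i d φ)
    (φ' : Omega.conormal i' ⟶ (Scheme.Modules.pullback i').obj Ω') (hφ' : IsConormalDiff i' d' φ') :
    Nonempty (DerivedCategory.Q.obj (tw φ) ≅ DerivedCategory.Q.obj (tw φ')) := by
  let k₀ : X ⟶ pullback g g' := pullback.lift i i' (hi.trans hi'.symm)
  haveI : IsImmersion (k₀ ≫ pullback.fst g g') := by rw [pullback.lift_fst]; infer_instance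
  haveI : IsImmersion k₀ := IsImmersion.of_comp k₀ (pullback.fst g g')
  let p := k₀.coborderRange.ι ≫ pullback.fst g g'
  let q := k₀.coborderRange.ι ≫ pullback.snd g g'
  have hp : k₀.liftCoborder ≫ p = i := by
    rw [Scheme.Hom.liftCoborder_ι_assoc]
    exact pullback.lift_fst _ _ _
  have hq : k₀.liftCoborder ≫ q = i' := by
    rw [Scheme.Hom.liftCoborder_ι_assoc]
    exact pullback.lift_snd _ _ _
  obtain ⟨ΩW, dW, hW⟩ := exists_universal (p ≫ g)
  obtain ⟨φk, hφk⟩ := GrpOmega.exists_conormalDiff (p ≫ g) k₀.liftCoborder ΩW dW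
  obtain ⟨e⟩ := complex_step p g (p ≫ g) rfl k₀.liftCoborder i hp Ω d hd ΩW dW hW φ hφ φk hφk
  obtain ⟨e'⟩ := complex_step q g' (p ≫ g) (by simp [p, q, pullback.condition]) k₀.liftCoborder i' hq
    Ω' d' hd' ΩW dW hW φ' hφ' φk hφk
  exact ⟨e ≪≫ e'.symm⟩

end Groth.Agent.H6KO
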