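import Groth.Agent.H6KO.Main
import Groth.Agent.PnEuler.ExtLine
import Groth.Agent.PnEuler.ExtFree
import Groth.Agent.Lib.CurveTensor

/-!
# The determinant of the differentials of a trivial projective bundle
-/

set_option autoImplicit false
set_option linter.style.haveILetI false
set_option linter.unusedSectionVars false
set_option backward.isDefEq.respectTransparency false
set_option backward.isDefEq.respectTransparency.types false
set_option maxHeartbeats 1000000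

universe u

open CategoryTheory CategoryTheory.Limits AlgebraicGeometry TopologicalSpace Opposite

attribute [-instance] CategoryTheory.catToReflQuiver

noncomputable section

namespace Groth.Agent.H6KO

open Groth.Agent

variable {S P : Scheme.{u}} {p : P ⟶ S} {F : S.Modules} {O1 : P.Modules}
  {u : (Scheme.Modules.pullback p).obj F ⟶ O1} {Ω : P.Modules} {d : OmegaSh.Der p Ω}

/-- The differentials of a projective bundle of rank `n + 1` have rank `n`. -/
theorem isFinLocFreeOfRank_omega {n : ℕ} (hF : FlatMod.IsFinLocFreeOfRank (n + 1) F)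
    (hPB : KRR.IsProjBundle p F O1 u) (hd : OmegaSh.IsUniversal d) : FlatMod.IsFinLocFreeOfRank n Ω := fun x => by
  classical
  haveI := hPB.epi
  have hF' := ExtPowSh.flf_of_rank hF
  obtain ⟨V₀, hxV₀, ⟨eF⟩⟩ := hF (p x)
  obtain ⟨C, hxW, -⟩ := exists_coords_of_iso (u := u) hF' (BertiniSec.isInvertible_of_rank_one hPB.invertible) ⊤ x
    trivial hxV₀ eF
  let L : (C.Idx → Γ(P, C.W)) ≃ₗ[Γ(P, C.W)] Γ(Ω, C.W) :=
    LinearEquiv.ofBijective (Fintype.linearCombination Γ(P, C.W) fun j : C.Idx => d.app C.W (C.t j.down.1))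
      (C.bijective_dt hPB (QCoh.isQCoh_of_isFinLocFree hF') hd)
  have hcard : Fintype.card C.Idx = n := by simp [Coords.Idx, Fintype.card_subtype_compl]
  let σ : C.Idx ≃ ULift.{u} (Fin n) := (Fintype.equivFinOfCardEq hcard).trans Equiv.ulift.symm
  exact ⟨C.W, hxW, QCoh.exists_free_restrict (Synt29.OmegaStalk.isQCoh_of_isUniversal hd) C.hW
    (L.symm.trans ((Finsupp.linearEquivFunOnFinite Γ(P, C.W) Γ(P, C.W) C.Idx).symm.trans
      (Finsupp.domLCongr σ)))⟩

/-- The determinant of the differentials of the bundle of a free module. -/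
theorem nonempty_extPow_top {n : ℕ} {u : (Scheme.Modules.pullback p).obj (FlatMod.freeMod S (n + 1)) ⟶ O1}
    (hPB : KRR.IsProjBundle p (FlatMod.freeMod S (n + 1)) O1 u) (hd : OmegaSh.IsUniversal d) {D : P.Modules}
    (hD : PicF.IsInvertible D) (e : CohB1.tensorMod D O1 ≅ Coh.structureModule P) {L : P.Modules}
    (hL : ExtPow.IsExtPow n Ω L) : Nonempty (L ≅ CohB1.tensorPow D (n + 1)) := by
  haveI := hPB.epi
  have hr : FlatMod.IsFinLocFreeOfRank (n + 1) (FlatMod.freeMod S (n + 1)) := fun x =>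
    ⟨⊤, trivial, ⟨(Scheme.Modules.restrictFunctorIsoPullback _).app _ ≪≫ KFlatLib.pullFreeIso _ (n + 1)⟩⟩
  have hrΩ := isFinLocFreeOfRank_omega hr hPB hd
  have hΩ := ExtPowSh.flf_of_rank hrΩ
  have hDf : FlatMod.IsFinLocFree D := H23.PullPush.isFinLocFree_of_isInvertible hD
  have hq := QCoh.isQCoh_of_isFinLocFree hΩ
  let S₀ : ShortComplex P.Modules := ShortComplex.mk (kernel.ι u) u (kernel.condition u)
  have hS₀ : S₀.ShortExact := ShortComplex.ShortExact.mk' (ShortComplex.exact_kernel u) inferInstance inferInstance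
  have hT := CurveTensor.shortExact_tensor hDf S₀.f S₀.g S₀.zero hS₀
  obtain ⟨ε⟩ := nonempty_iso_kernel (ExtPowSh.flf_of_rank hr) hPB hd
  obtain ⟨c₁⟩ := H23.PicMul.comm D (CohB1.tensorMod Ω O1)
  obtain ⟨c₂⟩ := H23.PicMul.assoc Ω O1 D
  obtain ⟨c₃⟩ := H23.PicMul.comm O1 D
  obtain ⟨c₄⟩ := H23.PicMul.unit Ω
  let i₁ : (DCoh.tensorBi.obj D).obj (kernel u) ≅ Ω :=
    (DCoh.tensorBi.obj D).mapIso ε.symm ≪≫ c₁ ≪≫ c₂ ≪≫ (DCoh.tensorBi.obj Ω).mapIso (c₃ ≪≫ e) ≪≫ c₄
  obtain ⟨f, g, w, hS⟩ := PnEuler.exists_ses_extPow hT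
    (H23.PullPush.isFinLocFree_of_iso i₁.symm hΩ) e
    (H23.PullPush.isFinLocFree_of_iso e.symm
      (H23.PullPush.isFinLocFree_of_isInvertible InvX.isInvertible_structureModule)) n
  have hz : IsZero (ExtPowSh.L ((DCoh.tensorBi.obj D).obj (kernel u)) (n + 1)) := by
    obtain ⟨j⟩ := PnEuler.nonempty_L_congr i₁ ((QCoh.isQCoh_iff_iso i₁).2 hq) (n + 1)
    refine IsZero.of_iso ?_ j
    have h := ExtPowSh.isFinLocFreeOfRank (i := n + 1) hrΩ
    rw [Nat.choose_eq_zero_of_lt (Nat.lt_succ_self n)] at h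
    exact ExtPowSh.isZero_of_rank_zero h
  haveI : IsIso g := (ShortComplex.ShortExact.isIso_g_iff hS).2 hz
  have hfq := PnEuler.isQCoh_free P (n + 1)
  obtain ⟨c₅⟩ := H23.PicMul.comm D ((Scheme.Modules.pullback p).obj (FlatMod.freeMod S (n + 1)))
  let i₂ : ExtPowSh.tens (FlatMod.freeMod P (n + 1)) D ≅
      (DCoh.tensorBi.obj D).obj ((Scheme.Modules.pullback p).obj (FlatMod.freeMod S (n + 1))) :=
    (DCoh.tensorBi.mapIso (KFlatLib.pullFreeIso p (n + 1)).symm).app D ≪≫ c₅.symm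
  have hi₂ := KFlatLib.isQCoh_tensor hfq (QCoh.isQCoh_of_isFinLocFree hDf)
  obtain ⟨j₂⟩ := PnEuler.nonempty_L_congr i₂ hi₂ (n + 1)
  obtain ⟨j₁⟩ := PnEuler.nonempty_L_congr i₁ ((QCoh.isQCoh_iff_iso i₁).2 hq) n
  obtain ⟨t⟩ := ExtPowSh.nonempty_twist_iso (E := FlatMod.freeMod P (n + 1)) (L := D) (n + 1) hfq hD
  obtain ⟨h⟩ := PnEuler.nonempty_extPow_free P (n + 1) (n + 1)
  obtain ⟨l⟩ := ExtPowSh.nonempty_iso hL (ExtPowSh.isExtPow Ω n hq)
  haveI : Unique (Fin ((n + 1).choose (n + 1))) := by rw [Nat.choose_self]; infer_instance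
  obtain ⟨c₆⟩ := H23.PicMul.comm (Coh.structureModule P) (CohB1.tensorPow D (n + 1))
  obtain ⟨c₇⟩ := H23.PicMul.unit (CohB1.tensorPow D (n + 1))
  exact ⟨l ≪≫ j₁.symm ≪≫ (asIso g).symm ≪≫ j₂.symm ≪≫ t ≪≫
    (DCoh.tensorBi.mapIso (h ≪≫ coproductUniqueIso _)).app _ ≪≫ c₆ ≪≫ c₇⟩

end Groth.Agent.H6KO
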