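import Mathlib

/-!
A finite type algebra is locally a quotient of a standard smooth algebra of relative dimension the
fibre dimension of its differentials.
-/

set_option autoImplicit false
set_option linter.style.haveILetI false

universe u v

open TensorProduct MvPolynomial KaehlerDifferential

namespace Groth.Agent.H6KO.SmoothChart

variable {A B : Type u} [CommRing A] [CommRing B] [Algebra A B] {n : ℕ}

/-- The gradient of a relation, evaluated in the residue field. -/
noncomputable def grad (x : Fin n → B) (q : Ideal B) [q.IsPrime] (g : MvPolynomial (Fin n) A) :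
    Fin n → q.ResidueField :=
  fun i => algebraMap B q.ResidueField (aeval x (pderiv i g))

theorem finrank_span_grad (x : Fin n → B) (hx : Function.Surjective (aeval x : MvPolynomial (Fin n) A →ₐ[A] B))
    (q : Ideal B) [q.IsPrime] :
    n ≤ Module.finrank q.ResidueField
        (Submodule.span q.ResidueField (Set.range fun g : RingHom.ker (aeval x : MvPolynomial (Fin n) A →ₐ[A] B) => grad x q g.1)) +
      Module.finrank q.ResidueField (q.ResidueField ⊗[B] Ω[B⁄A]) := by
  let k := q.ResidueField
  let P := Algebra.Generators.ofSurjective x hx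
  let d := P.toExtension.cotangentComplex.baseChange k
  let t := P.toExtension.toKaehler.baseChange k
  let e : k ⊗[B] P.toExtension.CotangentSpace ≃ₗ[k] (Fin n → k) :=
    (P.cotangentSpaceBasis.baseChange k).equivFun
  haveI : Module.Finite k (k ⊗[B] P.toExtension.CotangentSpace) := Module.Finite.equiv e.symm
  have hex : Function.Exact d t :=
    lTensor_exact k P.toExtension.exact_cotangentComplex_toKaehler P.toExtension.toKaehler_surjective
  have ht : Function.Surjective t :=
    LinearMap.lTensor_surjective k P.toExtension.toKaehler_surjective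
  have hn : Module.finrank k (k ⊗[B] P.toExtension.CotangentSpace) = n :=
    e.finrank_eq.trans (by simp)
  have h1 := t.finrank_range_add_finrank_ker
  rw [LinearMap.range_eq_top.2 ht, finrank_top, LinearMap.exact_iff.1 hex, hn] at h1
  have h2 : (LinearMap.range d).map e.toLinearMap ≤ Submodule.span k
      (Set.range fun g : RingHom.ker (aeval x : MvPolynomial (Fin n) A →ₐ[A] B) => grad x q g.1) := by
    rintro _ ⟨_, ⟨z, rfl⟩, rfl⟩
    induction z with
    | zero => simp
    | add y z hy hz => rw [map_add, map_add]; exact add_mem hy hz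
    | tmul a b =>
      obtain ⟨g, rfl⟩ := Algebra.Extension.Cotangent.mk_surjective b
      have hg : g.1 ∈ RingHom.ker (aeval x : MvPolynomial (Fin n) A →ₐ[A] B) := g.2
      have : e (d (a ⊗ₜ Algebra.Extension.Cotangent.mk g)) = a • grad x q g.1 := by
        funext i
        change (P.cotangentSpaceBasis.baseChange k).repr
          (a ⊗ₜ P.toExtension.cotangentComplex (.mk g)) i = _
        rw [Module.Basis.baseChange_repr_tmul, Algebra.Extension.cotangentComplex_mk]
        erw [Algebra.Generators.cotangentSpaceBasis_repr_tmul]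
        rw [one_mul, Pi.smul_apply, smul_eq_mul, Algebra.smul_def, mul_comm]
        rfl
      change e (d (a ⊗ₜ Algebra.Extension.Cotangent.mk g)) ∈ _
      rw [this]
      exact Submodule.smul_mem _ _ (Submodule.subset_span ⟨⟨g.1, hg⟩, rfl⟩)
  have h3 := Submodule.finrank_mono h2
  rw [LinearEquiv.finrank_map_eq] at h3
  exact (le_of_eq h1.symm).trans ((Nat.add_comm _ _).trans_le (Nat.add_le_add_right h3 _))

/-- A nonsingular minor of the Jacobian of the relations. -/
theorem exists_minor (x : Fin n → B) (hx : Function.Surjective (aeval x : MvPolynomial (Fin n) A →ₐ[A] B))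
    (q : Ideal B) [q.IsPrime] (p : ℕ) (hp : Module.finrank q.ResidueField (q.ResidueField ⊗[B] Ω[B⁄A]) ≤ p) :
    ∃ (f : Fin (n - p) → MvPolynomial (Fin n) A) (a : Fin (n - p) → Fin n),
      Function.Injective a ∧ (∀ j, aeval x (f j) = 0) ∧
      aeval x (Matrix.of fun i j => pderiv (a i) (f j)).det ∉ q := by
  let k := q.ResidueField
  obtain ⟨b, hb, hspan, hli⟩ := exists_linearIndependent k
    (Set.range fun g : RingHom.ker (aeval x : MvPolynomial (Fin n) A →ₐ[A] B) => grad x q g.1)
  haveI : Finite b := hli.finite
  haveI := Fintype.ofFinite b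
  have hcard : n - p ≤ Fintype.card b := by
    have h : n ≤ Module.finrank k (Submodule.span k b) + Module.finrank k (k ⊗[B] Ω[B⁄A]) := by
      rw [hspan]; exact finrank_span_grad x hx q
    have h' : Module.finrank k (k ⊗[B] Ω[B⁄A]) ≤ p := hp
    rw [finrank_span_set_eq_card hli, Set.toFinset_card] at h
    omega
  obtain ⟨c⟩ : Nonempty (Fin (n - p) ↪ b) :=
    Function.Embedding.nonempty_of_card_le (by simpa using hcard)
  choose g hg using fun j => hb (c j).2
  let M : Matrix (Fin (n - p)) (Fin n) k := Matrix.of fun j => grad x q (g j).1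
  have hM : LinearIndependent k M.row := by
    have : M.row = (Subtype.val : b → Fin n → k) ∘ c := funext hg
    rw [this]
    exact hli.comp c c.injective
  have hr : Module.finrank k (Submodule.span k (Set.range M.col)) = n - p := by
    rw [← Matrix.rank_eq_finrank_span_cols, hM.rank_matrix, Fintype.card_fin]
  obtain ⟨w, hw, hwspan, hwli⟩ := exists_linearIndependent k (Set.range M.col)
  haveI : Finite w := hwli.finite
  haveI := Fintype.ofFinite w
  have hwc : Fintype.card w = n - p := by
    have h : Module.finrank k (Submodule.span k w) = n - p := by rw [hwspan]; exact hr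
    rwa [finrank_span_set_eq_card hwli, Set.toFinset_card] at h
  let ew := (Fintype.equivFinOfCardEq hwc).symm
  choose a ha using fun i => hw (ew i).2
  have hai : Function.Injective a := fun i j h => ew.injective (Subtype.ext (by rw [← ha, ← ha, h]))
  refine ⟨fun j => (g j).1, a, hai, fun j => (g j).2, ?_⟩
  have hsub : LinearIndependent k (M.submatrix id a).col := by
    have : (M.submatrix id a).col = (Subtype.val : w → Fin (n - p) → k) ∘ ew := funext ha
    rw [this]
    exact hwli.comp ew ew.injective
  have hu := (Matrix.linearIndependent_cols_iff_isUnit.1 hsub)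
  intro hq
  rw [Matrix.isUnit_iff_isUnit_det] at hu
  refine hu.ne_zero ?_
  rw [← Ideal.algebraMap_residueField_eq_zero (I := q), AlgHom.map_det, RingHom.map_det,
    ← Matrix.det_transpose] at hq
  refine Eq.trans ?_ hq
  congr 1

/-- The standard smooth chart given by a minor. -/
theorem exists_standardSmooth_of_minor (x : Fin n → B)
    (hx : Function.Surjective (aeval x : MvPolynomial (Fin n) A →ₐ[A] B)) {m p : ℕ} (hnp : p + m = n)
    (f : Fin m → MvPolynomial (Fin n) A) (a : Fin m → Fin n) (ha : Function.Injective a)
    (hf : ∀ j, aeval x (f j) = 0) :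
    ∃ (D : Type u) (_ : CommRing D) (_ : Algebra A D),
      Algebra.IsStandardSmoothOfRelativeDimension p A D ∧
        ∃ φ : D →ₐ[A] Localization.Away (aeval x (Matrix.of fun i j => pderiv (a i) (f j)).det),
          Function.Surjective φ := by
  let h := (Matrix.of fun i j => pderiv (a i) (f j)).det
  let g := aeval x h
  let L := Localization.Away g
  let v : Fin m ⊕ Unit → MvPolynomial (Fin n ⊕ Unit) A :=
    Sum.elim (fun j => rename Sum.inl (f j)) (fun _ => rename Sum.inl h * X (Sum.inr ()) - 1)
  let D := MvPolynomial (Fin n ⊕ Unit) A ⧸ Ideal.span (Set.range v)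
  let a' : Fin m ⊕ Unit → Fin n ⊕ Unit := Sum.map a id
  let P₀ := Algebra.PreSubmersivePresentation.naive (v := v) a' (Sum.map_injective.2 ⟨ha, Function.injective_id⟩)
  have hrel : Ideal.Quotient.mk (Ideal.span (Set.range v))
      (rename Sum.inl h * X (Sum.inr ())) = 1 := by
    rw [← map_one (Ideal.Quotient.mk (Ideal.span (Set.range v))), Ideal.Quotient.mk_eq_mk_iff_sub_mem]
    exact Ideal.subset_span ⟨Sum.inr (), rfl⟩
  have hu : IsUnit (Ideal.Quotient.mk (Ideal.span (Set.range v)) (rename Sum.inl h)) :=
    IsUnit.of_mul_eq_one _ ((map_mul _ _ _).symm.trans hrel)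
  have hblock : P₀.jacobiMatrix = Matrix.fromBlocks
      ((Matrix.of fun i j => pderiv (a i) (f j)).map (rename Sum.inl))
      (Matrix.of fun i _ => pderiv (Sum.inl (a i)) (v (Sum.inr ())))
      0 (Matrix.of fun _ _ => rename Sum.inl h) := by
    refine Matrix.ext fun i j => ?_
    rw [Algebra.PreSubmersivePresentation.jacobiMatrix_naive]
    rcases i with i | i <;> rcases j with j | j
    · simp only [a', v, Sum.map_inl, Sum.elim_inl, Matrix.fromBlocks_apply₁₁, Matrix.map_apply, Matrix.of_apply]
      exact pderiv_rename Sum.inl_injective _ _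
    · simp [a', v]
    · simp only [a', v, Sum.map_inr, id, Sum.elim_inl, Matrix.fromBlocks_apply₂₁, Matrix.zero_apply]
      refine pderiv_eq_zero_of_notMem_vars fun hm => ?_
      obtain ⟨b, -, hb⟩ := Finset.mem_image.1 (vars_rename Sum.inl (f j) hm)
      cases hb
    · simp only [a', v, Sum.map_inr, id, Sum.elim_inr, Matrix.fromBlocks_apply₂₂, Matrix.of_apply]
      have h0 : pderiv (Sum.inr ()) (rename (Sum.inl : Fin n → Fin n ⊕ Unit) h) = 0 :=
        pderiv_eq_zero_of_notMem_vars fun hm => by
          obtain ⟨b, -, hb⟩ := Finset.mem_image.1 (vars_rename Sum.inl h hm)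
          cases hb
      simp [Derivation.leibniz, h0]
  let P : Algebra.SubmersivePresentation A D (Fin n ⊕ Unit) (Fin m ⊕ Unit) :=
    { P₀ with
      jacobian_isUnit := by
        rw [Algebra.PreSubmersivePresentation.jacobian_eq_jacobiMatrix_det, hblock,
          Matrix.det_fromBlocks_zero₂₁,
          Matrix.det_unique (Matrix.of fun (_ _ : Unit) => rename Sum.inl h), ← AlgHom.mapMatrix_apply, ← AlgHom.map_det]
        change IsUnit (Ideal.Quotient.mk (Ideal.span (Set.range v))
          (rename Sum.inl h * rename Sum.inl h))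
        rw [map_mul]
        exact hu.mul hu }
  refine ⟨D, inferInstance, inferInstance, P.isStandardSmoothOfRelativeDimension (by
    simp [Algebra.Presentation.dimension]; omega), ?_⟩
  let ev : MvPolynomial (Fin n ⊕ Unit) A →ₐ[A] L :=
    aeval (Sum.elim (fun i => algebraMap B L (x i)) fun _ => IsLocalization.Away.invSelf g)
  have hev : ∀ c, ev (rename Sum.inl c) = algebraMap B L (aeval x c) := fun c => by
    rw [aeval_rename, Sum.elim_comp_inl]
    exact aeval_algebraMap_apply L x c
  refine ⟨Ideal.Quotient.liftₐ _ ev (fun y hy => ?_), ?_⟩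
  · refine (Ideal.span_le (I := RingHom.ker ev)).2 ?_ hy
    rintro _ ⟨j | j, rfl⟩
    · simp [v, hev, hf]
    · simp only [v, Sum.elim_inr, SetLike.mem_coe, RingHom.mem_ker, map_sub, map_mul, hev, map_one,
        sub_eq_zero]
      rw [show ev (X (Sum.inr ())) = IsLocalization.Away.invSelf g by simp [ev]]
      exact IsLocalization.Away.mul_invSelf g
  · intro z
    obtain ⟨⟨b, ⟨_, e, rfl⟩⟩, hz⟩ := IsLocalization.surj (Submonoid.powers g) z
    obtain ⟨c, rfl⟩ := hx b
    refine ⟨Ideal.Quotient.mk _ (rename Sum.inl c * X (Sum.inr ()) ^ e), ?_⟩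
    change ev _ = _
    rw [map_mul, map_pow, hev, ← hz, show ev (X (Sum.inr ())) = IsLocalization.Away.invSelf g by simp [ev],
      mul_assoc, map_pow, ← mul_pow, IsLocalization.Away.mul_invSelf, one_pow, mul_one]

/-- Near a prime whose differentials have fibre dimension at most `p`, a finite type algebra is a quotient
of a standard smooth algebra of relative dimension `p`. -/
theorem exists_standardSmooth [Algebra.FiniteType A B] (q : Ideal B) [q.IsPrime] (p : ℕ)
    (hp : Module.finrank q.ResidueField (q.ResidueField ⊗[B] Ω[B⁄A]) ≤ p) :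
    ∃ g : B, g ∉ q ∧ ∃ (D : Type u) (_ : CommRing D) (_ : Algebra A D),
      Algebra.IsStandardSmoothOfRelativeDimension p A D ∧
        ∃ φ : D →ₐ[A] Localization.Away g, Function.Surjective φ := by
  obtain ⟨n₀, ψ, hψ⟩ := Algebra.FiniteType.iff_quotient_mvPolynomial''.1 ‹Algebra.FiniteType A B›
  let y : Fin (n₀ + p) → B := Fin.append (fun i => ψ (X i)) (fun _ => 0)
  have hy : Function.Surjective (aeval y : MvPolynomial (Fin (n₀ + p)) A →ₐ[A] B) := by
    intro b
    obtain ⟨c, rfl⟩ := hψ b
    refine ⟨rename (Fin.castAdd p) c, ?_⟩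
    rw [aeval_rename]
    exact DFunLike.congr_fun (MvPolynomial.algHom_ext fun i => by simp [y]) c
  obtain ⟨f, a, ha, hf, hdet⟩ := exists_minor y hy q p hp
  exact ⟨_, hdet, exists_standardSmooth_of_minor y hy (by omega) f a ha hf⟩

end Groth.Agent.H6KO.SmoothChart
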