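import Groth.Agent.H6KO.Cotangent
import Groth.Agent.H6KO.Main
import Groth.Agent.H6KB.Model
import Groth.Agent.HilbStrat.ProjSpace
import Groth.Agent.KRRReg.Ample
import Groth.Agent.KRegLib.TwoImm
import Groth.Agent.KRegLib.WeakReg
import Groth.Agent.KRRReg.RingModel
import Groth.Agent.KRRReg.Section
import Groth.Agent.CurvLocusLib.LocP
import Groth.Agent.CanonDual.Sub
import Groth.Agent.SheafHomX.Extra
import Groth.Agent.ExtShX.DualTensor
import Groth.Agent.ExtShX.HomShLocFree
import Groth.Agent.H9LiftLF.Inv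
import Groth.Agent.Lib.CurveHomEuler

/-!
# The tangent element of a factorisation through projective space
-/

set_option autoImplicit false
set_option linter.style.haveILetI false
set_option backward.isDefEq.respectTransparency false
set_option backward.isDefEq.respectTransparency.types false
set_option maxHeartbeats 1000000

universe u v

open CategoryTheory CategoryTheory.Limits AlgebraicGeometry TopologicalSpace Opposite
open Groth.Agent.H23.PicMul

noncomputable section

namespace Groth.Agent.H6KO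

open Groth.Agent

variable {X Y : Scheme.{u}}

abbrev dual' (E : X.Modules) : X.Modules := (SheafHomX.hom E).obj (Coh.structureModule X)

theorem exists_dualHom (X : Scheme.{u}) : ∃ δ : SGA6.Kvb X →+ SGA6.Kvb X, ∀ E : X.Modules,
    FlatMod.IsFinLocFree E → δ (KRR.cl X E) = KRR.cl X (dual' E) := by
  refine KZ.exists_liftSub (KRR.vbP X) (fun E => KRR.cl X (dual' E)) fun S hS h₁ h₂ h₃ => ?_
  obtain ⟨w, hse⟩ := CurveHom.shortExact_homMapLeft hS h₁ h₂ h₃ (Coh.structureModule X)
  obtain ⟨e₁⟩ := ExtShX.nonempty_hom_iso_homSh_of_locFree h₁ (Coh.structureModule X)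
  obtain ⟨e₂⟩ := ExtShX.nonempty_hom_iso_homSh_of_locFree h₂ (Coh.structureModule X)
  obtain ⟨e₃⟩ := ExtShX.nonempty_hom_iso_homSh_of_locFree h₃ (Coh.structureModule X)
  have hO : FlatMod.IsFinLocFree (Coh.structureModule X) := KRRReg.isFinLocFree_structure X
  have h := KZ.clSub_ses (KRR.vbP X) (ShortComplex.shortExact_of_iso
    (S₂ := ShortComplex.mk (e₃.hom ≫ CurveHom.homMapLeft _ S.g ≫ e₂.inv)
      (e₂.hom ≫ CurveHom.homMapLeft _ S.f ≫ e₁.inv) (by simp [reassoc_of% w]))
    (ShortComplex.isoMk e₃.symm e₂.symm e₁.symm (by simp) (by simp)) hse)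
    (SheafHomX.isFinLocFree_hom h₃ hO) (SheafHomX.isFinLocFree_hom h₂ hO) (SheafHomX.isFinLocFree_hom h₁ hO)
  exact h.trans (add_comm _ _)

/-- The dual of an invertible module is its inverse. -/
theorem nonempty_dual_iso {L L' : X.Modules} (hL : PicF.IsInvertible L) (h : PicF.cl L * PicF.cl L' = 1) :
    Nonempty (dual' L ≅ L') := by
  obtain ⟨θ⟩ := H9LiftLF.nonempty_hom_self hL
  have h1 : PicF.cl L * PicF.cl (dual' L) = 1 := by
    rw [← cl_tensor]
    exact cl_eq_iff.2 ⟨ExtShX.dualTensorIso (H23.PullPush.isFinLocFree_of_isInvertible hL) L ≪≫ θ⟩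
  refine cl_eq_iff.1 ?_
  calc PicF.cl (dual' L) = PicF.cl (dual' L) * (PicF.cl L * PicF.cl L') := by rw [h, mul_one]
    _ = PicF.cl L' := by rw [← mul_assoc, mul_comm (PicF.cl (dual' L)), h1, one_mul]

variable [IsNoetherian Y] {KX : Type v} [CommRing KX] {φX : SGA6.Kvb X →+ KX} (hK : KRRReg.IsRingModel X KX φX)

include hK in
/-- The class of the pulled-back differentials of projective space. -/
theorem cl_pullback_omega_PY (n : ℕ) (i : X ⟶ KRR.PY n Y) (Ω : (KRR.PY n Y).Modules)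
    (d : OmegaSh.Der (KRR.pr n Y) Ω) (hd : OmegaSh.IsUniversal d) :
    KRR.cl X ((Scheme.Modules.pullback i).obj Ω) =
      (n + 1) • KRR.cl X ((Scheme.Modules.pullback i).obj (Twist.twistOver n Y (-1))) -
        KRR.cl X (Coh.structureModule X) := by
  haveI : Smooth (KRR.pr n Y) := KRRReg.smooth_pr
  obtain ⟨q, hq⟩ := H6KB.exists_isProjBundle_PY n Y
  haveI := hq.epi
  obtain ⟨e⟩ := nonempty_iso_kernel (KFlatLib.isFinLocFree_freeMod (n + 1)) hq hd
  have hΩ : FlatMod.IsFinLocFree Ω := flf_omega _ hd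
  let O1 := Twist.twistOver n Y 1
  let M := Twist.twistOver n Y (-1)
  have hO1 : FlatMod.IsFinLocFree O1 := (H23.PullPush.isFinLocFree_of_isInvertible (HilbStrat.ProjSpace.isInvertible_twistOver 1))
  have hM : FlatMod.IsFinLocFree M := (H23.PullPush.isFinLocFree_of_isInvertible (HilbStrat.ProjSpace.isInvertible_twistOver (-1)))
  have hT := KFlatLib.isFinLocFree_tensor hΩ hO1
  have hF := KFlatLib.isFinLocFree_pullback (KRR.pr n Y) (KFlatLib.isFinLocFree_freeMod (X := Y) (n + 1))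
  have hker : (ShortComplex.mk (kernel.ι q) q (kernel.condition q)).ShortExact :=
    { exact := ShortComplex.exact_kernel q }
  have hses := KRRReg.shortExact_pullback_vb i hker hO1
  have hK1 : φX (KRR.cl X ((Scheme.Modules.pullback i).obj ((Scheme.Modules.pullback (KRR.pr n Y)).obj
      (FlatMod.freeMod Y (n + 1))))) = (n + 1 : ℕ) := by
    have e2 : KRR.cl X ((Scheme.Modules.pullback i).obj ((Scheme.Modules.pullback (KRR.pr n Y)).obj
        (FlatMod.freeMod Y (n + 1)))) = KRR.cl X (FlatMod.freeMod X (n + 1)) :=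
      KRRReg.cl_iso ((Scheme.Modules.pullback i).mapIso (KFlatLib.pullFreeIso (KRR.pr n Y) (n + 1)) ≪≫
        KFlatLib.pullFreeIso i (n + 1)) (KFlatLib.isFinLocFree_pullback i hF)
    rw [e2, KRRReg.cl_freeMod, map_nsmul, hK.map_one, nsmul_eq_mul, mul_one]
  have hadd := congrArg φX (cl_add hses (KFlatLib.isFinLocFree_pullback i (KRRReg.isFinLocFree_iso e hT))
    (KFlatLib.isFinLocFree_pullback i hF) (KFlatLib.isFinLocFree_pullback i hO1))
  have hpt : ∀ A B : (KRR.PY n Y).Modules, FlatMod.IsFinLocFree A → FlatMod.IsFinLocFree B →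
      φX (KRR.cl X ((Scheme.Modules.pullback i).obj (CohB1.tensorMod A B))) =
        φX (KRR.cl X ((Scheme.Modules.pullback i).obj A)) * φX (KRR.cl X ((Scheme.Modules.pullback i).obj B)) := by
    intro A B hA hB
    rw [hK.map_mul _ _ (KFlatLib.isFinLocFree_pullback i hA) (KFlatLib.isFinLocFree_pullback i hB)]
    refine congrArg φX (KRRReg.cl_of_picCl ?_ (KFlatLib.isFinLocFree_pullback i (KFlatLib.isFinLocFree_tensor hA hB)))
    show PicF.pullCl i (PicF.cl (CohB1.tensorMod A B)) = PicF.pullCl i (PicF.cl A) * PicF.pullCl i (PicF.cl B)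
    rw [cl_tensor, pullCl_mul]
  rw [map_add] at hadd
  simp only [ShortComplex.map_X₁, ShortComplex.map_X₂, ShortComplex.map_X₃] at hadd
  rw [hK1, show φX (KRR.cl X ((Scheme.Modules.pullback i).obj (kernel q))) =
    φX (KRR.cl X ((Scheme.Modules.pullback i).obj (CohB1.tensorMod Ω O1))) from congrArg φX
      (KRRReg.cl_iso ((Scheme.Modules.pullback i).mapIso e) (KFlatLib.isFinLocFree_pullback i hT)).symm,
    hpt Ω O1 hΩ hO1] at hadd
  have hLM : φX (KRR.cl X ((Scheme.Modules.pullback i).obj O1)) *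
      φX (KRR.cl X ((Scheme.Modules.pullback i).obj M)) = 1 := by
    rw [← hpt O1 M hO1 hM, ← hK.map_one]
    refine congrArg φX (KRRReg.cl_of_picCl ?_ (KFlatLib.isFinLocFree_pullback i (KFlatLib.isFinLocFree_tensor hO1 hM)))
    show PicF.pullCl i (PicF.cl (CohB1.tensorMod O1 M)) = 1
    rw [cl_tensor, ← HilbStrat.ProjSpace.cl_twistOver_add, show ((1 : ℤ) + -1) = ((0 : ℕ) : ℤ) from rfl,
      HilbStrat.ProjSpace.cl_twistOver_natCast, cl_tensorPow, pow_zero, pullCl_one]
  refine hK.bijective.1 ?_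
  rw [map_sub, map_nsmul, hK.map_one, nsmul_eq_mul]
  show _ = ((n + 1 : ℕ) : KX) * φX (KRR.cl X ((Scheme.Modules.pullback i).obj M)) - 1
  linear_combination (-(φX (KRR.cl X ((Scheme.Modules.pullback i).obj M)))) * hadd -
    (φX (KRR.cl X ((Scheme.Modules.pullback i).obj Ω)) + 1) * hLM

include hK in
/-- The tangent element is the dual of the cotangent class. -/
theorem tangent_eq (δ : SGA6.Kvb X →+ SGA6.Kvb X) (hδ : ∀ E : X.Modules, FlatMod.IsFinLocFree E →
    δ (KRR.cl X E) = KRR.cl X (dual' E)) (n : ℕ) (i : X ⟶ KRR.PY n Y) (Ω : (KRR.PY n Y).Modules)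
    (d : OmegaSh.Der (KRR.pr n Y) Ω) (hd : OmegaSh.IsUniversal d) (hC : FlatMod.IsFinLocFree (Omega.conormal i))
    [DCoh.HasSheafHom (Omega.conormal i)] :
    φX (δ (KRR.cl X ((Scheme.Modules.pullback i).obj Ω) - KRR.cl X (Omega.conormal i))) =
      ((n + 1 : ℕ) : KX) * φX (KRR.cl X ((Scheme.Modules.pullback i).obj (Twist.twistOver n Y 1))) - 1
        - φX (KRR.cl X ((DCoh.sheafHom (Omega.conormal i)).obj (Coh.structureModule X))) := by
  have hO := KRRReg.isFinLocFree_structure X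
  have hM := KFlatLib.isFinLocFree_pullback i ((H23.PullPush.isFinLocFree_of_isInvertible (HilbStrat.ProjSpace.isInvertible_twistOver (-1))))
  obtain ⟨a⟩ := CanonDual.nonempty_sheafHom_iso (Omega.conormal i)
  obtain ⟨θ⟩ := H9LiftLF.nonempty_hom_self (X := X) InvX.isInvertible_structureModule
  obtain ⟨η⟩ := nonempty_dual_iso (L := (Scheme.Modules.pullback i).obj (Twist.twistOver n Y (-1)))
    (L' := (Scheme.Modules.pullback i).obj (Twist.twistOver n Y 1))
    (PicClLib.isInvertible_pullback i (HilbStrat.ProjSpace.isInvertible_twistOver (-1))) (by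
      show PicF.pullCl i (PicF.cl _) * PicF.pullCl i (PicF.cl _) = 1
      rw [← pullCl_mul, ← HilbStrat.ProjSpace.cl_twistOver_add, show ((-1 : ℤ) + 1) = ((0 : ℕ) : ℤ) from rfl,
        HilbStrat.ProjSpace.cl_twistOver_natCast, cl_tensorPow, pow_zero, pullCl_one])
  rw [cl_pullback_omega_PY hK n i Ω d hd, map_sub, map_sub, map_sub, map_nsmul, hδ _ hM, hδ _ hO, hδ _ hC,
    KRRReg.cl_iso η (SheafHomX.isFinLocFree_hom hM hO), KRRReg.cl_iso θ (SheafHomX.isFinLocFree_hom hO hO),
    ← KRRReg.cl_iso (a.app (Coh.structureModule X)).symm (SheafHomX.isFinLocFree_hom hC hO),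
    map_sub, map_nsmul, hK.map_one, nsmul_eq_mul]

theorem isLCI'_of_regularClosed {A B : Scheme.{u}} {k : A ⟶ B} (hk : Mor2.IsRegularClosedImmersion k) :
    KRegLib.IsLCI' k := by
  haveI := hk.1
  refine (KRegLib.forall_isKoszulAt_iff k).1 fun x => ⟨⊤, B, (⊤ : A.Opens).ι ≫ k, 𝟙 B, trivial,
    inferInstance, ⟨inferInstance, fun z => ?_⟩, inferInstance, Category.comp_id _⟩
  obtain ⟨U, hU, hzU, rs, hrs, hI⟩ := hk.2 ((⊤ : A.Opens).ι z)
  haveI : IsClosedImmersion (k ∣_ U) := inferInstance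
  haveI := KRegLib.isClosedImmersion_restrict_comp_ι k (⊤ : A.Opens) (D := U) le_top
  refine (RegImmLib.isRegularImmersionAt_iff _ z).2 ⟨rs.length, U, hU, hzU, inferInstance, rs.get,
    KRegLib.isExact_of_isWeaklyRegular rs.get (by rw [List.ofFn_get]; exact hrs.toIsWeaklyRegular), ?_⟩
  rw [KRegLib.ker_app_comp_ι k (⊤ : A.Opens) le_top, ← Scheme.Hom.ker_apply k ⟨U, hU⟩, hI,
    RegImmLib.span_range_eq_ofList, List.ofFn_get]

theorem isKoszulAt_pr {n : ℕ} (i : X ⟶ KRR.PY n Y) (h : Mor2.IsRegularClosedImmersion i) (x : X) :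
    Synt.IsKoszulAt (i ≫ KRR.pr n Y) x := by
  haveI : Smooth (KRR.pr n Y) := KRRReg.smooth_pr
  haveI := KRegLib.lci_propertyIsLocal.{u}
  exact (KRegLib.forall_isKoszulAt_iff _).2 (MorphismProperty.comp_mem KRegLib.IsLCI' _ _
    (isLCI'_of_regularClosed h)
    ((KRegLib.forall_isKoszulAt_iff _).1 fun y => CurvLocusLib.isKoszulAt_of_smooth _ y)) x

end Groth.Agent.H6KO
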