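import Groth.Agent.PPSheaf.Conormal3
import Groth.Agent.Synt29.ConormalSeq
import Groth.Agent.Synt29.KoszulSyntomic
import Groth.Agent.RegKinds.Seq
import Groth.Agent.ExtShX.KoszulConormal
import Groth.Agent.H23.Frame
import Groth.Agent.KRegLib.Kinds
import Groth.Agent.S9325

/-!
# The conormal sequence of a composite of immersions, the second being `H₁`-regular
-/

set_option autoImplicit false
set_option linter.style.haveILetI false
set_option backward.isDefEq.respectTransparency false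
set_option backward.isDefEq.respectTransparency.types false
set_option maxHeartbeats 1000000

universe u

open CategoryTheory CategoryTheory.Limits AlgebraicGeometry TopologicalSpace Opposite

noncomputable section

namespace Groth.Agent.H6KO

open Groth.Agent Groth.Agent.Synt29 OmegaStalk ConormalStalk ConormalSeq ConormalBC PPSheaf.Conormal3

variable {Z Y : Scheme.{u}} (i : Z ⟶ Y)

/-- The kernel at a point from the kernel on an affine open on which the map is a closed immersion. -/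
theorem ker_stalkMap_of_restrict {U : Y.Opens} (hU : IsAffineOpen U) [IsClosedImmersion (i ∣_ U)] (z : Z)
    (hz : i z ∈ U) :
    RingHom.ker (i.stalkMap z).hom = (RingHom.ker (i.app U).hom).map (Y.presheaf.germ U (i z) hz).hom := by
  obtain ⟨hV, hs⟩ := surjective_app_of_isClosedImmersion_restrict i U hU
  let φ : Γ(Y, U) →+* Γ(Z, i ⁻¹ᵁ U) := (i.app U).hom
  letI : Algebra Γ(Y, U) (Y.presheaf.stalk (i z)) := (Y.presheaf.germ U (i z) hz).hom.toAlgebra
  letI : Algebra Γ(Z, i ⁻¹ᵁ U) (Z.presheaf.stalk z) := (Z.presheaf.germ (i ⁻¹ᵁ U) z hz).hom.toAlgebra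
  haveI hX : IsLocalization.AtPrime (Y.presheaf.stalk (i z)) (hU.primeIdealOf ⟨i z, hz⟩).asIdeal :=
    hU.isLocalization_stalk ⟨i z, hz⟩
  haveI hZ : IsLocalization.AtPrime (Z.presheaf.stalk z) (hV.primeIdealOf ⟨z, hz⟩).asIdeal :=
    hV.isLocalization_stalk ⟨z, hz⟩
  have hcomap : (hU.primeIdealOf ⟨i z, hz⟩).asIdeal = (hV.primeIdealOf ⟨z, hz⟩).asIdeal.comap φ := by
    rw [show φ = (i.appLE U (i ⁻¹ᵁ U) le_rfl).hom by simp only [φ, Scheme.Hom.app_eq_appLE]]
    exact (congrArg PrimeSpectrum.asIdeal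
      (IsAffineOpen.comap_primeIdealOf_appLE (f := i) U hU (i ⁻¹ᵁ U) hV le_rfl hz)).symm
  let f : Y.presheaf.stalk (i z) →+* Z.presheaf.stalk z := (i.stalkMap z).hom
  have hf : ∀ a : Γ(Y, U), f (algebraMap _ _ a) = algebraMap _ _ (φ a) := fun a =>
    Scheme.Hom.germ_stalkMap_apply i U z hz a
  have hM : Submonoid.map φ (hU.primeIdealOf ⟨i z, hz⟩).asIdeal.primeCompl =
      (hV.primeIdealOf ⟨z, hz⟩).asIdeal.primeCompl := by
    ext b
    constructor
    · rintro ⟨a, ha, rfl⟩ hb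
      exact ha (by rw [hcomap]; exact hb)
    · intro hb
      obtain ⟨a, rfl⟩ := hs b
      exact ⟨a, fun h => hb (by rw [hcomap] at h; exact h), rfl⟩
  have hfm : f = IsLocalization.map (Z.presheaf.stalk z) φ
      (show (hU.primeIdealOf ⟨i z, hz⟩).asIdeal.primeCompl ≤
        (hV.primeIdealOf ⟨z, hz⟩).asIdeal.primeCompl.comap φ from
        Submonoid.map_le_iff_le_comap.1 hM.le) := by
    refine IsLocalization.ringHom_ext (hU.primeIdealOf ⟨i z, hz⟩).asIdeal.primeCompl (RingHom.ext fun a => ?_)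
    rw [RingHom.comp_apply, RingHom.comp_apply, hf, IsLocalization.map_eq]
  show RingHom.ker f = _
  rw [hfm]
  exact IsLocalization.ker_map (Z.presheaf.stalk z) φ hM

theorem h1_seq {U : Y.Opens} (hU : IsAffineOpen U) [IsClosedImmersion (i ∣_ U)] (rs : List Γ(Y, U))
    (hrs : CAlgX.IsH1Regular rs.get) (hker : RingHom.ker (i.app U).hom = Ideal.ofList rs) :
    (∀ a, i.app U (rs.get a) = 0) ∧ ∀ (y : Z) (hy : i y ∈ U),
      CAlgX.IsH1Regular (fun a => Y.presheaf.germ U (i y) hy (rs.get a)) ∧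
        RingHom.ker (i.stalkMap y).hom = Ideal.span (Set.range fun a => Y.presheaf.germ U (i y) hy (rs.get a)) := by
  refine ⟨fun a => RingHom.mem_ker.1 (hker ▸ Ideal.subset_span (List.get_mem rs a)), fun y hy => ?_⟩
  letI : Algebra Γ(Y, U) (Y.presheaf.stalk (i y)) := (Y.presheaf.germ U (i y) hy).hom.toAlgebra
  haveI : IsLocalization.AtPrime (Y.presheaf.stalk (i y)) (hU.primeIdealOf ⟨i y, hy⟩).asIdeal :=
    hU.isLocalization_stalk ⟨i y, hy⟩
  haveI : Module.Flat Γ(Y, U) (Y.presheaf.stalk (i y)) :=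
    IsLocalization.flat _ (hU.primeIdealOf ⟨i y, hy⟩).asIdeal.primeCompl
  refine ⟨RegKinds.h1_flat hrs, ?_⟩
  rw [ker_stalkMap_of_restrict i hU y hy, hker, Ideal.ofList, Ideal.map_span]
  congr 1
  ext b
  simp only [Set.mem_image, Set.mem_setOf_eq, Set.mem_range]
  constructor
  · rintro ⟨a, ha, rfl⟩
    obtain ⟨n, rfl⟩ := List.mem_iff_get.1 ha
    exact ⟨n, rfl⟩
  · rintro ⟨n, rfl⟩
    exact ⟨_, List.get_mem rs n, rfl⟩

/-- The kernel at a point is generated by an `H₁`-regular sequence coming from a chart. -/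
theorem exists_h1_chart (hi : RegImm.IsRegularImmersion RegImm.Kind.h1 i) (z : Z) :
    ∃ (U : Y.Opens) (c : ℕ) (g : Fin c → Γ(Y, U)), i z ∈ U ∧ (∀ a, i.app U (g a) = 0) ∧
      ∀ (y : Z) (hy : i y ∈ U), CAlgX.IsH1Regular (fun a => Y.presheaf.germ U (i y) hy (g a)) ∧
        RingHom.ker (i.stalkMap y).hom = Ideal.span (Set.range fun a => Y.presheaf.germ U (i y) hy (g a)) := by
  obtain ⟨⟨U, hU⟩, hzU, hci, rs, hrs, hker⟩ := hi.2 z
  exact ⟨U, rs.length, rs.get, hzU, h1_seq i hU rs hrs hker⟩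

section Frame

variable [IsImmersion i] [QuasiCompact i]

theorem rep_sum {x : Z} {c : ℕ} (b : Fin c → Y.presheaf.stalk (i x)) (m : Fin c → St (I i) (i x))
    (a : Fin c → Y.presheaf.stalk (i x)) (h : ∀ n, Rep i (i x) (m n) (a n)) (s : Finset (Fin c)) :
    Rep i (i x) (∑ n ∈ s, b n • m n) (∑ n ∈ s, b n * a n) := by
  classical
  induction s using Finset.induction_on with
  | empty => simpa using rep_zero i (i x)
  | insert n s hn ih => simpa [Finset.sum_insert hn] using rep_add i (rep_smul i (h n) (b n)) ih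

theorem isFrame_conormalSect {U : Y.Opens} {c : ℕ} {g : Fin c → Γ(Y, U)}
    (hgy : ∀ (y : Z) (hy : i y ∈ U), CAlgX.IsH1Regular (fun a => Y.presheaf.germ U (i y) hy (g a)) ∧
      RingHom.ker (i.stalkMap y).hom = Ideal.span (Set.range fun a => Y.presheaf.germ U (i y) hy (g a)))
    (k : Fin c → Γ(ClSub.idealMod i.ker, U)) (hk : ∀ a, OmegaSh.idealSect i.ker U (k a) = g a) :
    H23.Frame.IsFrame (Omega.conormal i) fun a => OmegaSh.conormalSect i U (k a) := by
  refine (ExtShX.bijective_of_stalk_bases _ fun y hy => ?_)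
  obtain ⟨hH, hJ⟩ := hgy y hy
  let Pu := (KFlatLib.stalkPullbackIso i y).app (I i)
  let J := RingHom.ker (i.stalkMap y).hom
  let G : Fin c → Y.presheaf.stalk (i y) := fun a => Y.presheaf.germ U (i y) hy (g a)
  let m : Fin c → St (I i) (i y) := fun a => gm (I i) hy (k a)
  have hm : ∀ a, Rep i (i y) (m a) (G a) := fun a => ⟨U, hy, k a, rfl, congrArg _ (hk a)⟩
  let u : St (I i) (i y) →+ _ := AddMonoidHom.mk' (unit1 i y) fun p q =>
    map_add ((ModuleCat.extendRestrictScalarsAdj (i.stalkMap y).hom).unit.app (St (I i) (i y))).hom p q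
  have key : ∀ β : Fin c → Y.presheaf.stalk (i y),
      Pu.hom (∑ a, i.stalkMap y (β a) • gm (Omega.conormal i) hy (OmegaSh.conormalSect i U (k a))) =
        unit1 i y (∑ a, β a • m a) := fun β => by
    show _ = u _
    rw [map_sum, map_sum]
    refine Finset.sum_congr rfl fun a _ => ?_
    rw [map_smul]
    refine Eq.trans ?_ (unit1_smul i y (β a) (m a)).symm
    exact congrArg _ (KFlatLib.stalkPullbackIso_gm i y (I i) U hy (k a))
  refine ⟨?_, fun t => ?_⟩
  · intro b b' hb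
    choose β hβ using fun a => i.stalkMap_surjective y (b a - b' a)
    have h0 : unit1 i y (∑ a, β a • m a) = 0 := by
      rw [← key]
      refine (congrArg Pu.hom ?_).trans (map_zero Pu.hom.hom)
      simp only [hβ, sub_smul, Finset.sum_sub_distrib]
      exact sub_eq_zero.2 hb
    have hsq := mem_sq_of_unit1_eq_zero i (i.stalkMap_surjective y) (rep_sum i β m G hm Finset.univ) h0
    funext a
    have hq : CAlgX.IsQuasiRegular G := S2103.result G hH
    have hmem := hq 1 (∑ a, MvPolynomial.C (β a) * MvPolynomial.X a)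
      (MvPolynomial.IsHomogeneous.sum _ _ _ fun a _ => (MvPolynomial.isHomogeneous_X _ a).C_mul _)
      (by rw [hJ] at hsq; simpa [G] using hsq) (Finsupp.single a 1)
    have h5 : β a ∈ J := by
      refine hJ.ge ?_
      simpa [G, MvPolynomial.coeff_sum, MvPolynomial.coeff_C_mul, MvPolynomial.coeff_X',
        Finsupp.single_left_inj] using hmem
    exact sub_eq_zero.1 ((hβ a).symm.trans (RingHom.mem_ker.1 h5))
  · obtain ⟨p, hp⟩ := unit1_surjective i y (Pu.hom t)
    obtain ⟨a, ha⟩ := rep_exists i (i y) p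
    obtain ⟨β, hβ⟩ := Ideal.mem_span_range_iff_exists_fun.1 (hJ.le (rep_mem i ha))
    refine ⟨fun a => i.stalkMap y (β a), (ConcreteCategory.bijective_of_isIso Pu.hom).1 ?_⟩
    refine (key β).trans ?_
    rw [← hp]
    refine congrArg _ (rep_inj i (rep_sum i β m G hm Finset.univ) ?_)
    rw [show ∑ n, β n * G n = a from hβ]
    exact ha

theorem exists_free_conormal {U : Y.Opens} {c : ℕ} {g : Fin c → Γ(Y, U)} (hg0 : ∀ a, i.app U (g a) = 0)
    (hgy : ∀ (y : Z) (hy : i y ∈ U), CAlgX.IsH1Regular (fun a => Y.presheaf.germ U (i y) hy (g a)) ∧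
      RingHom.ker (i.stalkMap y).hom = Ideal.span (Set.range fun a => Y.presheaf.germ U (i y) hy (g a))) :
    Nonempty ((Omega.conormal i).restrict (i ⁻¹ᵁ U).ι ≅ FlatMod.freeMod ((i ⁻¹ᵁ U : Z.Opens) : Scheme.{u}) c) := by
  choose k hk using fun a => OmegaUniv.exists_idealSect_of_app_eq_zero i U (g a) (hg0 a)
  exact H23.Frame.exists_iso_of_frame _ (isFrame_conormalSect i hgy k hk)

theorem isFinLocFree_conormal (hi : RegImm.IsRegularImmersion RegImm.Kind.h1 i) :
    FlatMod.IsFinLocFree (Omega.conormal i) := fun z => by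
  obtain ⟨U, c, g, hzU, hg0, hgy⟩ := exists_h1_chart i hi z
  exact ⟨i ⁻¹ᵁ U, c, hzU, exists_free_conormal i hg0 hgy⟩

theorem isFinLocFreeOfRank_conormal {d : ℕ} (hi : RegImm.IsRegularImmersionOfCodim RegImm.Kind.koszul d i) :
    FlatMod.IsFinLocFreeOfRank d (Omega.conormal i) := fun z => by
  obtain ⟨⟨U, hU⟩, hzU, hci, rs, rfl, hrs, hker⟩ := hi.2 z
  obtain ⟨hg0, hgy⟩ := h1_seq i hU rs (KRegLib.h1_of_koszul rs hrs) hker
  exact ⟨i ⁻¹ᵁ U, hzU, exists_free_conormal i hg0 hgy⟩

end Frame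

variable {X : Scheme.{u}} (j : Y ⟶ X) [IsImmersion i] [IsImmersion j] [QuasiCompact i] [QuasiCompact j]

theorem injective_stalk_conormalMap (a : (Scheme.Modules.pullback i).obj (Omega.conormal j) ⟶ Omega.conormal (i ≫ j))
    (ha : OmegaSh.IsConormalMap (i ≫ j) j (𝟙 X) i a) (x : Z)
    (hi : ∃ (U : Y.Opens) (c : ℕ) (g : Fin c → Γ(Y, U)) (hx : i x ∈ U),
      CAlgX.IsH1Regular (fun a => Y.presheaf.germ U (i x) hx (g a)) ∧
        RingHom.ker (i.stalkMap x).hom = Ideal.span (Set.range fun a => Y.presheaf.germ U (i x) hx (g a))) :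
    Function.Injective ((DerSch.stalkFunctor Z x).map a) := by
  have w₁ : i ≫ j = (i ≫ j) ≫ 𝟙 X := (Category.comp_id _).symm
  refine (injective_iff_map_eq_zero _).mpr fun z hz => ?_
  obtain ⟨m, rfl⟩ := exists_el (i ≫ j) j i x (i.stalkMap_surjective x) z
  obtain ⟨r, hr⟩ := rep_exists j _ m
  obtain ⟨n, hn, hv⟩ := map_el (i ≫ j) j (𝟙 X) i w₁ x a ha m r hr
  rw [δ₁_eq j i x r w₁] at hn
  have h0 : unit1 (i ≫ j) x n = 0 := by
    rw [← hv]
    exact (congrArg ((KFlatLib.stalkPullbackIso (i ≫ j) x).app (I (i ≫ j))).hom hz).trans (map_zero _)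
  let φ := (j.stalkMap (i x)).hom
  let K := RingHom.ker φ
  let L : Ideal (X.presheaf.stalk (j (i x))) := RingHom.ker ((i ≫ j).stalkMap x).hom
  have hsq : r ∈ L ^ 2 := mem_sq_of_unit1_eq_zero (i ≫ j) ((i ≫ j).stalkMap_surjective x) hn h0
  have hL : L = (RingHom.ker (i.stalkMap x).hom).comap φ := by
    rw [RingHom.comap_ker]
    show RingHom.ker _ = _
    rw [Scheme.Hom.stalkMap_comp]
    rfl
  have hKL : K ≤ L := by
    rw [hL]
    intro s hs
    rw [Ideal.mem_comap, show φ s = 0 from hs]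
    exact zero_mem _
  obtain ⟨U, c, g, hxU, hH, hJ⟩ := hi
  have hprod : K ⊓ L ^ 2 = K * L := by
    refine S9325.result K L hKL fun q _ _ => ⟨1, fun h => Ideal.IsPrime.ne_top ‹_› ((Ideal.eq_top_iff_one q).2 h), c, ?_⟩
    let e : Y.presheaf.stalk (i x) ≃+* (X.presheaf.stalk (j (i x)) ⧸ K) :=
      (RingHom.quotientKerEquivOfSurjective (j.stalkMap_surjective (i x))).symm
    have he : ∀ s, e (φ s) = Ideal.Quotient.mk K s := fun s => by
      rw [RingEquiv.symm_apply_eq]
      rfl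
    let σ : Y.presheaf.stalk (i x) →+* Localization.Away (1 : X.presheaf.stalk (j (i x)) ⧸ K) :=
      (algebraMap _ _).comp e.toRingHom
    letI := σ.toAlgebra
    haveI : Module.Flat (Y.presheaf.stalk (i x)) (Localization.Away (1 : X.presheaf.stalk (j (i x)) ⧸ K)) :=
      RingHom.Flat.comp (RingHom.Flat.of_bijective e.bijective)
        (show (algebraMap (X.presheaf.stalk (j (i x)) ⧸ K) (Localization.Away (1 : _ ⧸ K))).Flat from
          RingHom.flat_algebraMap_iff.2 (IsLocalization.flat _ (Submonoid.powers (1 : _ ⧸ K))))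
    refine ⟨fun n => σ (Y.presheaf.germ U (i x) hxU (g n)), RegKinds.h1_flat hH, ?_⟩
    have hmk : L.map (Ideal.Quotient.mk K) = (RingHom.ker (i.stalkMap x).hom).map e.toRingHom := by
      rw [show Ideal.Quotient.mk K = e.toRingHom.comp φ from RingHom.ext fun s => (he s).symm, ← Ideal.map_map, hL,
        Ideal.map_comap_of_surjective _ (j.stalkMap_surjective (i x))]
    rw [hmk, hJ, Ideal.map_map, Ideal.map_span]
    congr 1
    exact Set.range_comp σ fun n => Y.presheaf.germ U (i x) hxU (g n)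
  have hmem : r ∈ K * L := hprod.le ⟨RingHom.mem_ker.2 (rep_mem j hr), hsq⟩
  obtain ⟨m', hm', h0'⟩ : ∃ m', Rep j _ m' r ∧ el j i x m' = 0 := by
    refine Submodule.mul_induction_on hmem (fun k hk l hl => ?_) ?_
    · obtain ⟨p, hp⟩ := exists_rep j (x := i x) (a := k) (RingHom.mem_ker.1 hk)
      refine ⟨l • p, (mul_comm k l).symm ▸ rep_smul j hp l, ?_⟩
      rw [el_smul]
      exact (congrArg (· • el j i x p) ((congr($(Scheme.Hom.stalkMap_comp i j x) l)).symm.trans
        (RingHom.mem_ker.1 hl))).trans (zero_smul _ _)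
    · rintro _ _ ⟨p, hp, hp0⟩ ⟨p', hp', hp0'⟩
      exact ⟨p + p', rep_add j hp hp', by rw [el_add, hp0, hp0', add_zero]⟩
  rwa [rep_inj j hr hm']

theorem mono_conormalMap (a : (Scheme.Modules.pullback i).obj (Omega.conormal j) ⟶ Omega.conormal (i ≫ j))
    (ha : OmegaSh.IsConormalMap (i ≫ j) j (𝟙 X) i a) (hi : RegImm.IsRegularImmersion RegImm.Kind.h1 i) :
    Mono a := by
  rw [mono_iff_stalk]
  intro x
  exact injective_stalk_conormalMap i j a ha x (by
    obtain ⟨U, c, g, hxU, -, hgy⟩ := exists_h1_chart i hi x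
    exact ⟨U, c, g, hxU, hgy x hxU⟩)

theorem conormal_transitivity
    (a : (Scheme.Modules.pullback i).obj (Omega.conormal j) ⟶ Omega.conormal (i ≫ j))
    (ha : OmegaSh.IsConormalMap (i ≫ j) j (𝟙 X) i a)
    (b : (Scheme.Modules.pullback (𝟙 Z)).obj (Omega.conormal (i ≫ j)) ⟶ Omega.conormal i)
    (hb : OmegaSh.IsConormalMap i (i ≫ j) j (𝟙 Z) b)
    (hi : RegImm.IsRegularImmersion RegImm.Kind.h1 i) :
    ∃ w : a ≫ ((Scheme.Modules.pullbackId Z).inv.app (Omega.conormal (i ≫ j)) ≫ b) = 0,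
      (ShortComplex.mk a ((Scheme.Modules.pullbackId Z).inv.app (Omega.conormal (i ≫ j)) ≫ b) w).ShortExact := by
  obtain ⟨he, w, hex⟩ := PPSheaf.Conormal3.main j i a ha b hb
  haveI := he
  haveI := mono_conormalMap i j a ha hi
  exact ⟨w, { exact := hex }⟩

end Groth.Agent.H6KO
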