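import Groth.Agent.H6KO.Kaehler
import Groth.Agent.SymSh.Spec
import Groth.Agent.GrModX.BaseChangeTilde
import Groth.Agent.RelSpecX.Gamma
import Groth.Agent.QCoh.PullbackBC

/-!
# Differentials of a vector bundle
-/

set_option autoImplicit false
set_option linter.style.haveILetI false
set_option backward.isDefEq.respectTransparency false
set_option backward.isDefEq.respectTransparency.types false
set_option maxHeartbeats 1000000

universe u

open CategoryTheory CategoryTheory.Limits AlgebraicGeometry TopologicalSpace Opposite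
open scoped TensorProduct

noncomputable section

namespace Groth.Agent.H6KO

open Groth.Agent

/-- The differentials of a symmetric algebra, for any presentation of it. -/
theorem bijective_kaehler_symm {R B M : Type u} [CommRing R] [CommRing B] [Algebra R B] [AddCommGroup M]
    [Module R M] (e : SymmetricAlgebra R M ≃ₐ[R] B) :
    Function.Bijective (LinearMap.liftBaseChange B
      ((KaehlerDifferential.D R B).toLinearMap.restrictScalars R ∘ₗ
        (e.toAlgHom.toLinearMap ∘ₗ SymmetricAlgebra.ι R M))) := by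
  classical
  let g₀ : SymmetricAlgebra R M →ₐ[R] TrivSqZeroExt B (B ⊗[R] M) := SymmetricAlgebra.lift
    { toFun := fun m => TrivSqZeroExt.inl (e (SymmetricAlgebra.ι R M m)) + TrivSqZeroExt.inr (1 ⊗ₜ m)
      map_add' := fun a b => by
        refine TrivSqZeroExt.ext ?_ ?_ <;> simp [TensorProduct.tmul_add]
      map_smul' := fun r a => by
        refine TrivSqZeroExt.ext ?_ ?_ <;> simp [TensorProduct.tmul_smul] }
  have hfst : ∀ c, (g₀ c).fst = e c := by
    intro c
    induction c using SymmetricAlgebra.induction with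
    | algebraMap r => simp [TrivSqZeroExt.algebraMap_eq_inl']
    | ι m => simp [g₀]
    | mul a b ha hb => rw [map_mul, TrivSqZeroExt.fst_mul, ha, hb, map_mul]
    | add a b ha hb => rw [map_add, TrivSqZeroExt.fst_add, ha, hb, map_add]
  let g := g₀.comp e.symm.toAlgHom
  let δ : Derivation R B (B ⊗[R] M) :=
    Derivation.mk'
      { toFun := fun c => (g c).snd
        map_add' := fun a b => by simp
        map_smul' := fun r a => by simp }
      (fun a b => by
        show (g (a * b)).snd = a • (g b).snd + b • (g a).snd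
        rw [map_mul, TrivSqZeroExt.snd_mul, op_smul_eq_smul]
        congr 2 <;> exact (hfst _).trans (e.apply_symm_apply _))
  set F := LinearMap.liftBaseChange B ((KaehlerDifferential.D R B).toLinearMap.restrictScalars R ∘ₗ
    (e.toAlgHom.toLinearMap ∘ₗ SymmetricAlgebra.ι R M)) with hF
  have hleft : δ.liftKaehlerDifferential ∘ₗ F = LinearMap.id := by
    refine TensorProduct.AlgebraTensorModule.ext fun c m => ?_
    simp [F, δ, g, g₀, TensorProduct.smul_tmul']
  have hsurj : Function.Surjective F := by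
    rw [← LinearMap.range_eq_top, eq_top_iff, ← KaehlerDifferential.span_range_derivation R B, Submodule.span_le]
    rintro _ ⟨c, rfl⟩
    obtain ⟨c, rfl⟩ := e.surjective c
    induction c using SymmetricAlgebra.induction with
    | algebraMap r => simp
    | ι m => exact ⟨1 ⊗ₜ m, by simp [F]⟩
    | mul a b ha hb =>
      rw [map_mul, Derivation.leibniz]
      exact add_mem (Submodule.smul_mem _ _ hb) (Submodule.smul_mem _ _ ha)
    | add a b ha hb => rw [map_add, map_add]; exact add_mem ha hb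
  exact ⟨Function.LeftInverse.injective (g := δ.liftKaehlerDifferential) (LinearMap.congr_fun hleft), hsurj⟩

theorem isIso_vectorBundle {S : Scheme.{u}} (E : S.Modules) (hE : Coh.IsQCoh E)
    (A : RelSpec.QCAlg S) (j : E ⟶ A.toModule) (hA : RelSpec.IsSymAlg E A j)
    (Ω' : A.spec.Modules) (d : OmegaSh.Der A.π Ω') (hd : OmegaSh.IsUniversal d)
    (φ : (Scheme.Modules.pullback A.π).obj E ⟶ Ω')
    (hφ : ∀ (U : S.Opens) (t : Γ(E, U)) (t' : Γ(A.spec, A.π ⁻¹ᵁ U)),
      A.gammaMap.app (op U) t' = j.app U t →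
        φ.app (A.π ⁻¹ᵁ U) (OmegaSh.pullSect A.π E U t) = d.app (A.π ⁻¹ᵁ U) t') :
    IsIso φ := by
  refine QCoh.isIso_of_affine_cover φ (QCoh.isQCoh_pullback A.π hE)
    (Synt29.OmegaStalk.isQCoh_of_isUniversal hd) fun x => ?_
  obtain ⟨_, ⟨U, hU, rfl⟩, hxU, -⟩ :=
    S.isBasis_affineOpens.exists_subset_of_mem_open (Set.mem_univ (A.π x)) isOpen_univ
  refine ⟨A.π ⁻¹ᵁ U, hxU, hU.preimage A.π, ?_⟩
  letI : Algebra Γ(S, U) Γ(A.spec, A.π ⁻¹ᵁ U) := (A.π.appLE U (A.π ⁻¹ᵁ U) le_rfl).hom.toAlgebra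
  let N := (Scheme.Modules.pullback A.π).obj E
  letI : Module Γ(S, U) Γ(N, A.π ⁻¹ᵁ U) := Module.compHom _ (A.π.appLE U (A.π ⁻¹ᵁ U) le_rfl).hom
  haveI : IsScalarTower Γ(S, U) Γ(A.spec, A.π ⁻¹ᵁ U) Γ(N, A.π ⁻¹ᵁ U) := .of_algebraMap_smul fun _ _ => rfl
  let l : Γ(E, U) →ₗ[Γ(S, U)] Γ(N, A.π ⁻¹ᵁ U) :=
    { toFun := fun m => QCoh.pullSec A.π E le_rfl m
      map_add' := QCoh.pullSec_add A.π E le_rfl
      map_smul' := QCoh.pullSec_smul A.π E le_rfl }
  have hbc := QCoh.isBaseChange_pullback hU A.π (hU.preimage A.π) hE le_rfl (fun _ => rfl) l fun _ => rfl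
  haveI := RelSpecX.isIso_gammaMap A
  let g : Γ(A.spec, A.π ⁻¹ᵁ U) ≃+* A.presheaf.obj (op U) :=
    (asIso (A.gammaMap.app (op U))).commRingCatIsoToRingEquiv
  obtain ⟨e', he, hej⟩ := SymSh.exists_sec hE hA hU
  let e : SymmetricAlgebra Γ(S, U) Γ(E, U) ≃ₐ[Γ(S, U)] Γ(A.spec, A.π ⁻¹ᵁ U) :=
    (AlgEquiv.ofRingEquiv (f := g.trans e') fun r => by
      show e' (A.gammaMap.app (op U) (A.π.appLE U (A.π ⁻¹ᵁ U) le_rfl r)) = _
      rw [← he r, ← Scheme.Hom.app_eq_appLE]
      exact congrArg e' congr($(NatTrans.congr_app A.π_c_gammaMap (op U)) r)).symm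
  obtain ⟨L, hL⟩ := exists_equiv_D hd (hU.preimage A.π) hU (le_refl (A.π ⁻¹ᵁ U))
  have key : ∀ z, φ.app (A.π ⁻¹ᵁ U) (hbc.equiv z) = L (LinearMap.liftBaseChange Γ(A.spec, A.π ⁻¹ᵁ U)
      ((KaehlerDifferential.D Γ(S, U) Γ(A.spec, A.π ⁻¹ᵁ U)).toLinearMap.restrictScalars Γ(S, U) ∘ₗ
        (e.toAlgHom.toLinearMap ∘ₗ SymmetricAlgebra.ι Γ(S, U) Γ(E, U))) z) := by
    intro z
    induction z using TensorProduct.induction_on with
    | zero => rw [map_zero, map_zero, map_zero, map_zero]
    | add a b ha hb => rw [map_add, map_add, map_add, map_add, ha, hb]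
    | tmul b m =>
      rw [IsBaseChange.equiv_tmul, LinearMap.liftBaseChange_tmul, Scheme.Modules.Hom.app_smul, L.map_smul]
      refine congrArg (b • ·) (Eq.trans ?_ (hL _).symm)
      refine Eq.trans ?_ (hφ U m (e (SymmetricAlgebra.ι Γ(S, U) Γ(E, U) m)) ?_)
      · refine congrArg (φ.app _) ?_
        show N.presheaf.map _ _ = _
        rw [show (homOfLE (le_refl (A.π ⁻¹ᵁ U))).op = 𝟙 _ from rfl, CategoryTheory.Functor.map_id]
        rfl
      · refine e'.injective (Eq.trans ?_ (hej m).symm)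
        exact (g.trans e').apply_symm_apply _
  have : φ.app (A.π ⁻¹ᵁ U) = L ∘ _ ∘ hbc.equiv.symm := funext fun y => by
    conv_lhs => rw [← hbc.equiv.apply_symm_apply y]
    exact key _
  rw [this]
  exact L.bijective.comp ((bijective_kaehler_symm e).comp hbc.equiv.symm.bijective)

end Groth.Agent.H6KO
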